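import Mathlib
import Cfsg.Agent.Lib.TwoGroups.FusionTools

/-!
Simple groups without subgroup chains of length nine whose Sylow 2-subgroups have order 128:
the Sylow 2-subgroup is maximal, hence the centraliser of each of its central involutions.
-/

set_option autoImplicit false
set_option linter.unusedSectionVars false
set_option linter.style.haveILetI false

namespace CfsgLib.ChainEight

open Subgroup CfsgLib.TwoGroups.FT

variable {G : Type*} [Group G] [Finite G]

/-- A group of order `2 ^ k` heads a chain of length `k`. -/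
theorem exists_chain : ∀ (k : ℕ) (Q : Subgroup G), Nat.card Q = 2 ^ k →
    ∃ f : Fin (k + 1) → Subgroup G, StrictAnti f ∧ f 0 = Q := by
  intro k
  induction k with
  | zero =>
    intro Q _
    refine ⟨fun _ => Q, ?_, rfl⟩
    intro i j hij
    omega
  | succ k ih =>
    intro Q hQ
    haveI : Fact (Nat.Prime 2) := ⟨Nat.prime_two⟩
    obtain ⟨R, hR⟩ := Sylow.exists_subgroup_card_pow_prime (G := Q) 2 (n := k)
      (by rw [hQ]; exact pow_dvd_pow 2 (Nat.le_succ k))
    have hR' : Nat.card (R.map Q.subtype) = 2 ^ k := by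
      rw [Subgroup.card_map_of_injective Q.subtype_injective, hR]
    obtain ⟨f, hf, hf0⟩ := ih _ hR'
    refine ⟨Fin.cons Q f, ?_, rfl⟩
    rw [Fin.strictAnti_iff_succ_lt]
    refine Fin.cases ?_ ?_
    · simp only [Fin.castSucc_zero, Fin.cons_succ, Fin.cons_zero, hf0]
      refine lt_of_le_of_ne (Subgroup.map_subtype_le _) fun e => ?_
      rw [e, hQ] at hR'
      exact absurd hR' (by rw [pow_succ]; have := Nat.two_pow_pos k; omega)
    · intro i
      simp only [Fin.cons_succ, ← Fin.succ_castSucc]
      exact Fin.strictAnti_iff_succ_lt.1 hf i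

/-- Without chains of length nine, a 2-group properly inside a proper subgroup has order at most
64. -/
theorem card_le_of_lt (h9 : ∀ c : Fin 10 → Subgroup G, ¬ StrictAnti c) {Q H : Subgroup G}
    (hQ : IsPGroup 2 Q) (hQH : Q < H) (hH : H ≠ ⊤) : Nat.card Q ≤ 64 := by
  haveI : Fact (Nat.Prime 2) := ⟨Nat.prime_two⟩
  obtain ⟨k, hk⟩ := hQ.exists_card_eq
  rw [hk]
  by_contra hlt
  have hk7 : 7 ≤ k := by
    by_contra h
    exact hlt (le_trans (Nat.pow_le_pow_right two_pos (show k ≤ 6 by omega)) (by norm_num))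
  obtain ⟨f, hf, hf0⟩ := exists_chain k Q hk
  have h1 : StrictAnti (Fin.cons H f : Fin (k + 2) → Subgroup G) := by
    rw [Fin.strictAnti_iff_succ_lt]
    refine Fin.cases ?_ ?_
    · simpa [hf0] using hQH
    · intro i
      simp only [Fin.cons_succ, ← Fin.succ_castSucc]
      exact Fin.strictAnti_iff_succ_lt.1 hf i
  have h2 : StrictAnti (Fin.cons ⊤ (Fin.cons H f : Fin (k + 2) → Subgroup G) :
      Fin (k + 3) → Subgroup G) := by
    rw [Fin.strictAnti_iff_succ_lt]
    refine Fin.cases ?_ ?_
    · simpa using lt_top_iff_ne_top.2 hH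
    · intro i
      simp only [Fin.cons_succ, ← Fin.succ_castSucc]
      exact Fin.strictAnti_iff_succ_lt.1 h1 i
  exact h9 _ (h2.comp_strictMono (Fin.strictMono_castLE (show 10 ≤ k + 3 by omega)))

/-- The standing hypotheses. -/
structure Setup (G : Type*) [Group G] [Finite G] (S : Sylow 2 G) : Prop where
  simple : IsSimpleGroup G
  noncomm : ¬ IsMulCommutative G
  no_chain : ∀ c : Fin 10 → Subgroup G, ¬ StrictAnti c
  card : Nat.card (S : Subgroup G) = 2 ^ 7

variable {S : Sylow 2 G}

theorem center_bot (h : Setup G S) : center G = ⊥ := by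
  haveI := h.simple
  rcases IsSimpleGroup.eq_bot_or_eq_top_of_normal (center G) inferInstance with e | e
  · exact e
  · exact absurd (⟨⟨fun a b => (Subgroup.mem_center_iff.1 (e ▸ mem_top b) a)⟩⟩) h.noncomm

theorem sylow_ne_top (h : Setup G S) : (S : Subgroup G) ≠ ⊤ := by
  haveI := h.simple
  haveI : Fact (Nat.Prime 2) := ⟨Nat.prime_two⟩
  intro e
  have hG : IsPGroup 2 G := by
    intro g
    obtain ⟨k, hk⟩ := S.2 ⟨g, e ▸ mem_top g⟩
    exact ⟨k, by simpa using congrArg Subtype.val hk⟩
  have := hG.center_nontrivial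
  exact (Subgroup.nontrivial_iff_ne_bot _).1 this (center_bot h)

theorem eq_sylow (h : Setup G S) {H : Subgroup G} (hSH : (S : Subgroup G) ≤ H) (hH : H ≠ ⊤) :
    H = (S : Subgroup G) := by
  by_contra hne
  have h1 := card_le_of_lt h.no_chain S.2 (lt_of_le_of_ne hSH (Ne.symm hne)) hH
  rw [h.card] at h1
  norm_num at h1

theorem eq_top_of_le_of_notMem (h : Setup G S) {H : Subgroup G} (hSH : (S : Subgroup G) ≤ H)
    {g : G} (hg : g ∈ H) (hgS : g ∉ (S : Subgroup G)) : H = ⊤ := by
  by_contra hH
  exact hgS (eq_sylow h hSH hH ▸ hg)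

theorem normalizer_eq (h : Setup G S) {U : Subgroup G} (hU : U ≠ ⊥) (hU' : U ≠ ⊤)
    (hS : (S : Subgroup G) ≤ normalizer (U : Set G)) :
    normalizer (U : Set G) = (S : Subgroup G) := by
  refine eq_sylow h hS fun e => ?_
  haveI := h.simple
  rcases IsSimpleGroup.eq_bot_or_eq_top_of_normal U (normalizer_eq_top_iff.1 e) with e1 | e1
  · exact hU e1
  · exact hU' e1

theorem normalizer_sylow (h : Setup G S) :
    normalizer ((S : Subgroup G) : Set G) = (S : Subgroup G) := by
  refine normalizer_eq h (fun e => ?_) (sylow_ne_top h) le_normalizer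
  have := h.card
  rw [e, Subgroup.card_bot] at this
  norm_num at this

theorem mem_of_cj_sylow (h : Setup G S) {g : G}
    (hg : cj g (S : Subgroup G) = (S : Subgroup G)) : g ∈ (S : Subgroup G) := by
  rw [← normalizer_sylow h]
  exact mem_normalizer_of_cj hg

/-- A central involution of `S`. -/
def Central (S : Sylow 2 G) (w : G) : Prop :=
  w ∈ (S : Subgroup G) ∧ w ≠ 1 ∧ ∀ s ∈ (S : Subgroup G), s * w = w * s

theorem centralizer_eq (h : Setup G S) {w : G} (hw : Central S w) :
    centralizer ({w} : Set G) = (S : Subgroup G) := by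
  refine eq_sylow h (fun s hs => mem_centralizer_singleton_iff.2 (hw.2.2 s hs)) fun e => ?_
  apply hw.2.1
  rw [← mem_bot, ← center_bot h, mem_center_iff]
  exact fun g => mem_centralizer_singleton_iff.1 (e ▸ mem_top g)

theorem mem_of_commute (h : Setup G S) {w g : G} (hw : Central S w) (hg : g * w = w * g) :
    g ∈ (S : Subgroup G) :=
  centralizer_eq h hw ▸ mem_centralizer_singleton_iff.2 hg

/-- An element commuting with a conjugate of a central element lies in that conjugate of `S`. -/
theorem mem_cj_of_commute (h : Setup G S) {w g x : G} (hw : Central S w)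
    (hx : x * (g * w * g⁻¹) = g * w * g⁻¹ * x) : x ∈ cj g (S : Subgroup G) := by
  rw [mem_cj]
  refine mem_of_commute h hw ?_
  calc g⁻¹ * x * g * w = g⁻¹ * (x * (g * w * g⁻¹)) * g := by group
    _ = g⁻¹ * (g * w * g⁻¹ * x) * g := by rw [hx]
    _ = _ := by group

theorem commute_of_mem_cj {w g x : G} (hw : Central S w) (hx : x ∈ cj g (S : Subgroup G)) :
    x * (g * w * g⁻¹) = g * w * g⁻¹ * x := by
  rw [mem_cj] at hx
  calc x * (g * w * g⁻¹) = g * (g⁻¹ * x * g * w) * g⁻¹ := by group
    _ = g * (w * (g⁻¹ * x * g)) * g⁻¹ := by rw [hw.2.2 _ hx]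
    _ = _ := by group

/-- Distinct central elements are not conjugate. -/
theorem eq_of_conj_central (h : Setup G S) {w g : G} (hw : Central S w)
    (hgw : Central S (g * w * g⁻¹)) : g * w * g⁻¹ = w := by
  have h1 : cj g (S : Subgroup G) = (S : Subgroup G) := by
    refine le_antisymm (fun x hx => ?_) fun x hx => mem_cj_of_commute h hw (hgw.2.2 x hx)
    exact mem_of_commute h hgw (commute_of_mem_cj hw hx)
  have hg := mem_of_cj_sylow h h1
  rw [hw.2.2 g hg, mul_inv_cancel_right]

theorem exists_central (h : Setup G S) : ∃ z, Central S z ∧ z * z = 1 := by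
  haveI : Fact (Nat.Prime 2) := ⟨Nat.prime_two⟩
  haveI : Nontrivial (S : Subgroup G) := by
    rw [← Finite.one_lt_card_iff_nontrivial, h.card]; norm_num
  haveI := S.2.center_nontrivial
  have hdvd : 2 ∣ Nat.card (center (S : Subgroup G)) := by
    obtain ⟨k, hk⟩ := (S.2.to_subgroup (center (S : Subgroup G))).exists_card_eq
    rw [hk]
    refine dvd_pow_self 2 fun e => ?_
    have := Finite.one_lt_card (α := center (S : Subgroup G))
    rw [hk, e] at this
    norm_num at this
  obtain ⟨⟨⟨z, hz⟩, hzc⟩, ho⟩ := exists_prime_orderOf_dvd_card' 2 hdvd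
  rw [← orderOf_coe, ← orderOf_coe] at ho
  refine ⟨z, ⟨hz, fun e => ?_, fun s hs => ?_⟩, ?_⟩
  · simp only at ho
    rw [e, orderOf_one] at ho
    norm_num at ho
  · exact congrArg Subtype.val (mem_center_iff.1 hzc ⟨s, hs⟩)
  · have := pow_orderOf_eq_one z
    simp only at ho
    rwa [ho, pow_two] at this

end CfsgLib.ChainEight
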