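import Cfsg.Agent.Lib.ChainEight.Tame

/-!
`Z(S)` has no four-subgroup.
-/

set_option autoImplicit false
set_option linter.unusedSectionVars false
set_option linter.style.haveILetI false

namespace CfsgLib.ChainEight

open Subgroup CfsgLib.TwoGroups.FT

theorem commute_trick {X : Type*} [Group X] {r t u : X} {a b : ℕ}
    (ht : t * r * t⁻¹ = r ^ a) (hu : u * r * u⁻¹ = r ^ b) :
    t * u * r * (t * u)⁻¹ = r ^ (a * b) := by
  rw [show t * u * r * (t * u)⁻¹ = t * (u * r * u⁻¹) * t⁻¹ by group, hu, ← conj_pow, ht, ← pow_mul]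

/-- A subgroup of order four and exponent two of odd index at most five meets its conjugates. -/
theorem exists_common {X : Type*} [Group X] [Finite X] (P : Subgroup X) (hP : Nat.card P = 4)
    (hexp : ∀ t ∈ P, t * t = 1) (hidx : P.index ≤ 5) (hodd : Odd P.index) (m : X) :
    ∃ t ∈ P, t ≠ 1 ∧ m⁻¹ * t * m ∈ P := by
  classical
  by_contra hno
  push Not at hno
  have hX : Nat.card X = 4 * P.index := by rw [← P.card_mul_index, hP]
  have hinj : Function.Injective (fun q : P × P => (q.1 : X) * m * q.2) := by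
    rintro ⟨⟨a, ha⟩, ⟨b, hb⟩⟩ ⟨⟨c, hc⟩, ⟨d, hd⟩⟩ heq
    simp only at heq
    have h1 : m⁻¹ * (c⁻¹ * a) * m = d * b⁻¹ := by
      calc m⁻¹ * (c⁻¹ * a) * m = m⁻¹ * c⁻¹ * (a * m * b) * b⁻¹ := by group
        _ = m⁻¹ * c⁻¹ * (c * m * d) * b⁻¹ := by rw [heq]
        _ = _ := by group
    have h2 : c⁻¹ * a = 1 := by
      by_contra hne
      exact hno _ (mul_mem (inv_mem hc) ha) hne (h1 ▸ mul_mem hd (inv_mem hb))
    rw [h2] at h1
    simp only [mul_one, inv_mul_cancel] at h1
    have hac : a = c := (inv_mul_eq_one.1 h2).symm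
    have hbd : b = d := (mul_inv_eq_one.1 h1.symm).symm
    exact Prod.ext (Subtype.ext hac) (Subtype.ext hbd)
  have hcard := Nat.card_le_card_of_injective _ hinj
  rw [Nat.card_prod, hP, hX] at hcard
  have hk : P.index = 5 := by
    obtain ⟨j, hj⟩ := hodd
    omega
  rw [hk] at hX
  haveI : Fact (Nat.Prime 5) := ⟨by norm_num⟩
  obtain ⟨R⟩ : Nonempty (Sylow 5 X) := inferInstance
  have hR : Nat.card (R : Subgroup X) = 5 := by
    have h20 : Nat.card X = 20 := by omega
    rw [R.card_eq_multiplicity, h20]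
    have : (20 : ℕ).factorization 5 = 1 := by
      rw [Nat.factorization_def _ (by norm_num : Nat.Prime 5)]
      haveI : Fact (Nat.Prime 5) := ⟨by norm_num⟩
      rw [show (20 : ℕ) = 5 * 4 by norm_num, padicValNat.mul (by norm_num) (by norm_num),
        padicValNat.self (by norm_num), padicValNat.eq_zero_of_not_dvd (by norm_num)]
    rw [this, pow_one]
  have hn5 : Nat.card (Sylow 5 X) = 1 := by
    have h1 := card_sylow_modEq_one 5 X
    have h2 : Nat.card (Sylow 5 X) ∣ (R : Subgroup X).index := R.card_dvd_index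
    have h3 : (R : Subgroup X).index = 4 := by
      have := (R : Subgroup X).card_mul_index
      rw [hR] at this
      omega
    rw [h3] at h2
    have h4 := Nat.le_of_dvd (by norm_num) h2
    rw [Nat.ModEq] at h1
    omega
  haveI : Subsingleton (Sylow 5 X) := (Nat.card_eq_one_iff_unique.1 hn5).1
  haveI hRn : (R : Subgroup X).Normal := R.normal_of_subsingleton
  haveI : IsCyclic (R : Subgroup X) := isCyclic_of_prime_card hR
  obtain ⟨⟨r, hr⟩, hgen⟩ := IsCyclic.exists_generator (α := (R : Subgroup X))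
  have hRz : (R : Subgroup X) = zpowers r := by
    refine le_antisymm (fun w hw => ?_) (zpowers_le.2 hr)
    obtain ⟨k, hk'⟩ := hgen ⟨w, hw⟩
    exact ⟨k, by simpa using congrArg Subtype.val hk'⟩
  have hro : orderOf r = 5 := by rw [← Nat.card_zpowers, ← hRz, hR]
  have hconj : ∀ t ∈ P, t * r * t⁻¹ = r ∨ t * r * t⁻¹ = r ^ 4 := by
    intro t ht
    have hmem : t * r * t⁻¹ ∈ zpowers r := hRz ▸ hRn.conj_mem r hr t
    rw [mem_zpowers_iff_mem_range_orderOf, hro] at hmem
    obtain ⟨a, ha, heq⟩ := Finset.mem_image.1 hmem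
    rw [Finset.mem_range] at ha
    have h2 := commute_trick heq.symm heq.symm
    rw [hexp t ht, inv_one, one_mul, mul_one] at h2
    have h3 : r ^ 1 = r ^ (a * a) := by rw [pow_one]; exact h2
    rw [pow_eq_pow_iff_modEq, hro] at h3
    interval_cases a
    · exact absurd h3 (by decide)
    · exact Or.inl (by rw [← heq, pow_one])
    · exact absurd h3 (by decide)
    · exact absurd h3 (by decide)
    · exact Or.inr heq.symm
  have hcentral : ∀ t ∈ P, t ≠ 1 → t * r * t⁻¹ = r → False := by
    intro t ht hne htr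
    apply hno t ht hne
    have hPR : P ⊔ (R : Subgroup X) = ⊤ := by
      apply Subgroup.eq_top_of_card_eq
      have h1 := Subgroup.card_dvd_of_le (le_sup_left : P ≤ P ⊔ (R : Subgroup X))
      have h2 := Subgroup.card_dvd_of_le (le_sup_right : (R : Subgroup X) ≤ P ⊔ (R : Subgroup X))
      rw [hP] at h1
      rw [hR] at h2
      have h3 := Nat.Coprime.mul_dvd_of_dvd_of_dvd (by norm_num) h1 h2
      have h4 := Subgroup.card_subgroup_dvd_card (P ⊔ (R : Subgroup X))
      rw [hX] at h4 ⊢
      exact Nat.dvd_antisymm h4 (by simpa using h3)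
    have hle : P ⊔ (R : Subgroup X) ≤ centralizer ({t} : Set X) := by
      refine sup_le (fun u hu => mem_centralizer_singleton_iff.2 ?_) ?_
      · have h5 := hexp (t * u) (mul_mem ht hu)
        calc u * t = (t * t) * (u * t) * (u * u) := by rw [hexp t ht, hexp u hu]; group
          _ = t * (t * u * (t * u)) * u := by group
          _ = t * u := by rw [h5, mul_one]
      · rw [hRz, zpowers_le, mem_centralizer_singleton_iff]
        exact (mul_inv_eq_iff_eq_mul.1 htr).symm
    have := mem_centralizer_singleton_iff.1 (hle (hPR ▸ mem_top m))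
    rw [mul_assoc, ← this, inv_mul_cancel_left]
    exact ht
  haveI : Nontrivial P := by rw [← Finite.one_lt_card_iff_nontrivial, hP]; norm_num
  obtain ⟨⟨t, ht⟩, hne⟩ := exists_ne (1 : P)
  have hne' : t ≠ 1 := fun e => hne (Subtype.ext e)
  rcases hconj t ht with h1 | h1
  · exact hcentral t ht hne' h1
  obtain ⟨u, hu, hut⟩ : ∃ u ∈ P, u ∉ zpowers t := by
    refine SetLike.exists_of_lt (lt_of_le_of_ne (zpowers_le.2 ht) fun e => ?_)
    have := Nat.card_zpowers t
    rw [e, hP, orderOf_eq_prime (p := 2) (by rw [pow_two]; exact hexp t ht) hne'] at this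
    norm_num at this
  rcases hconj u hu with h2 | h2
  · exact hcentral u hu (fun e => hut (e ▸ one_mem _)) h2
  · refine hcentral (t * u) (mul_mem ht hu) (fun e => hut ?_) ?_
    · rw [show u = t⁻¹ by rw [eq_inv_of_mul_eq_one_right e]]
      exact inv_mem (mem_zpowers t)
    · rw [commute_trick h1 h2]
      have : r ^ (4 * 4) = r ^ 1 := pow_eq_pow_iff_modEq.2 (by rw [hro]; decide)
      rw [this, pow_one]

variable {G : Type*} [Group G] [Finite G] {S : Sylow 2 G}

theorem no_central_four (h : Setup G S) {M : Subgroup G} (hM : Half S M) {z e : G}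
    (hz : Central S z) (hzz : z * z = 1) (he : Central S e) (hee : e * e = 1) (hne : e ≠ z) :
    False := by
  classical
  haveI : Fact (Nat.Prime 2) := ⟨Nat.prime_two⟩
  obtain ⟨T, n, hT⟩ := exists_tame h hM
  set N := normalizer (T : Set G) with hNdef
  have hnN : n ∈ N := hT.mem
  have hTS := hT.le_sylow
  have hTn : T ≤ cj n (S : Subgroup G) := hT.eq ▸ inf_le_right
  have hcomm : z * e = e * z := he.2.2 z hz.1
  have hze : Central S (z * e) := by
    refine ⟨mul_mem hz.1 he.1, fun e' => hne ?_, fun s hs => ?_⟩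
    · calc e = (z * z) * e := by rw [hzz, one_mul]
        _ = z * (z * e) := by group
        _ = z := by rw [e', mul_one]
    · rw [← mul_assoc, hz.2.2 s hs, mul_assoc, he.2.2 s hs, mul_assoc]
  let E : Subgroup G :=
    { carrier := {x | x = 1 ∨ x = z ∨ x = e ∨ x = z * e}
      one_mem' := Or.inl rfl
      mul_mem' := by
        have hz' : ∀ x : G, z * (z * x) = x := fun x => by rw [← mul_assoc, hzz, one_mul]
        have he' : ∀ x : G, e * (e * x) = x := fun x => by rw [← mul_assoc, hee, one_mul]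
        have hc' : ∀ x : G, e * (z * x) = z * (e * x) := fun x => by
          rw [← mul_assoc, ← hcomm, mul_assoc]
        rintro a b (rfl | rfl | rfl | rfl) (rfl | rfl | rfl | rfl) <;>
          simp [mul_assoc, hzz, hee, hz', he', hc', hcomm.symm]
      inv_mem' := by
        rintro a (rfl | rfl | rfl | rfl)
        · exact Or.inl inv_one
        · exact Or.inr (Or.inl (inv_eq_of_mul_eq_one_right hzz))
        · exact Or.inr (Or.inr (Or.inl (inv_eq_of_mul_eq_one_right hee)))
        · refine Or.inr (Or.inr (Or.inr ?_))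
          rw [mul_inv_rev, inv_eq_of_mul_eq_one_right hzz, inv_eq_of_mul_eq_one_right hee]
          exact hcomm.symm }
  have hEc : ∀ w ∈ E, w ≠ 1 → Central S w := by
    rintro w (rfl | rfl | rfl | rfl) hw
    · exact absurd rfl hw
    · exact hz
    · exact he
    · exact hze
  have hzE : z ∈ E := Or.inr (Or.inl rfl)
  have heE : e ∈ E := Or.inr (Or.inr (Or.inl rfl))
  have hzeE : z * e ∈ E := Or.inr (Or.inr (Or.inr rfl))
  let w : Fin 3 → G := ![z, e, z * e]
  have hw : ∀ i, Central S (w i) ∧ w i ∈ E := by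
    intro i
    fin_cases i
    · exact ⟨hz, hzE⟩
    · exact ⟨he, heE⟩
    · exact ⟨hze, hzeE⟩
  have hwinj : Function.Injective w := by
    intro i j hij
    have h1 : z ≠ z * e := fun e' => he.2.1 (by simpa using e'.symm)
    have h2 : e ≠ z * e := fun e' => hz.2.1 (by simpa using e'.symm)
    fin_cases i <;> fin_cases j <;> simp [w, h1, h1.symm, h2, h2.symm, hne, hne.symm] at hij ⊢
  have hE4 : 4 ≤ Nat.card E := by
    have : Function.Injective (fun o : Option (Fin 3) =>
        (Option.elim o ⟨1, E.one_mem⟩ fun i => ⟨w i, (hw i).2⟩ : E)) := by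
      rintro (_ | i) (_ | j) hij
      · rfl
      · exact absurd (congrArg Subtype.val hij).symm (hw j).1.2.1
      · exact absurd (congrArg Subtype.val hij) (hw i).1.2.1
      · exact congrArg some (hwinj (congrArg Subtype.val hij))
    simpa [Nat.card_eq_fintype_card] using Nat.card_le_card_of_injective _ this
  have hEz : ∀ x ∈ E, ∀ s ∈ (S : Subgroup G), s * x = x * s := by
    intro x hx s hs
    by_cases h1 : x = 1
    · simp [h1]
    · exact (hEc x hx h1).2.2 s hs
  have hEsq : ∀ x ∈ E, x * x = 1 := by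
    rintro x (rfl | rfl | rfl | rfl)
    · simp
    · exact hzz
    · exact hee
    · calc z * e * (z * e) = z * (e * z) * e := by group
        _ = (z * z) * (e * e) := by rw [← hcomm]; group
        _ = 1 := by rw [hzz, hee, mul_one]
  have hET : E ≤ T := fun x hx => by
    by_cases h1 : x = 1
    · exact h1 ▸ T.one_mem
    · exact hT.central_mem (hEc x hx h1)
  set E' := cj n E with hE'def
  have hE'T : E' ≤ T := by
    rw [hE'def, ← cj_eq_of_mem_normalizer hnN]
    exact cj_mono hET
  have hdisj : ∀ x ∈ E, x ∈ E' → x = 1 := by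
    intro x hx hx'
    by_contra h1
    obtain ⟨x₀, hx₀, rfl⟩ := hx'
    have hx₀1 : x₀ ≠ 1 := fun e' => h1 (by simp [e'])
    have hC := hEc _ hx h1
    have h2 : n * x₀ * n⁻¹ = x₀ := eq_of_conj_central h (hEc _ hx₀ hx₀1) hC
    refine hT.notMem hM (mem_of_commute h (hEc _ hx₀ hx₀1) ?_)
    calc n * x₀ = (n * x₀ * n⁻¹) * n := by group
      _ = x₀ * n := by rw [h2]
  have hCw : ∀ x ∈ E', x ≠ 1 → ∀ u ∈ (S : Subgroup G), u * x = x * u → u ∈ T := by
    intro x hx hx1 u hu hux
    obtain ⟨x₀, hx₀, rfl⟩ := hx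
    have hx₀1 : x₀ ≠ 1 := fun e' => hx1 (by simp [e'])
    rw [hT.eq]
    exact ⟨hu, mem_cj_of_commute h (hEc _ hx₀ hx₀1) hux⟩
  set Z := T ⊓ centralizer (T : Set G) with hZ
  have hEZ : E ≤ Z := fun x hx =>
    ⟨hET hx, mem_centralizer_iff.2 fun v hv => hEz x hx v (hTS hv)⟩
  have hE'Z : E' ≤ Z := by
    rintro _ ⟨x₀, hx₀, rfl⟩
    refine ⟨hE'T ⟨x₀, hx₀, rfl⟩, mem_centralizer_iff.2 fun v hv => ?_⟩
    show v * (n * x₀ * n⁻¹) = n * x₀ * n⁻¹ * v
    by_cases h1 : x₀ = 1
    · simp [h1]
    · exact commute_of_mem_cj (hEc _ hx₀ h1) (hTn hv)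
  have hprod : ∀ {A B : Subgroup G}, (∀ x ∈ A, x ∈ B → x = 1) → ∀ {C : Subgroup G}, A ≤ C →
      B ≤ C → Nat.card A * Nat.card B ≤ Nat.card C := by
    intro A B hAB C hA hB
    rw [← Nat.card_prod]
    refine Nat.card_le_card_of_injective (fun q : A × B => (⟨(q.1 : G) * q.2,
      mul_mem (hA q.1.2) (hB q.2.2)⟩ : C)) ?_
    rintro ⟨⟨a, ha⟩, ⟨b, hb⟩⟩ ⟨⟨c, hc⟩, ⟨d, hd⟩⟩ heq
    have h1 : a * b = c * d := congrArg Subtype.val heq
    have h2 : c⁻¹ * a = d * b⁻¹ := by
      calc c⁻¹ * a = c⁻¹ * (a * b) * b⁻¹ := by group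
        _ = c⁻¹ * (c * d) * b⁻¹ := by rw [h1]
        _ = _ := by group
    have h3 := hAB _ (mul_mem (inv_mem hc) ha) (h2 ▸ mul_mem hd (inv_mem hb))
    rw [h3] at h2
    exact Prod.ext (Subtype.ext (inv_mul_eq_one.1 h3).symm)
      (Subtype.ext (mul_inv_eq_one.1 h2.symm).symm)
  have hE'card : Nat.card E' = Nat.card E := card_cj _ _
  have hZ16 : 16 ≤ Nat.card Z := by
    have := hprod hdisj hEZ hE'Z
    rw [hE'card] at this
    nlinarith [hE4]
  have hTp : IsPGroup 2 T := S.2.to_le hTS
  have hT32 := hT.card_le h hM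
  have hab : ∀ u ∈ T, ∀ v ∈ T, u * v = v * u := by
    have hZT : Z = T := by
      by_contra hne'
      have hlt : Z < T := lt_of_le_of_ne inf_le_left hne'
      obtain ⟨t, ht, htZ⟩ := SetLike.exists_of_lt hlt
      have hsup : Z ⊔ zpowers t = T := by
        refine Subgroup.eq_of_le_of_card_ge (sup_le inf_le_left (zpowers_le.2 ht)) ?_
        have hlt' : Z < Z ⊔ zpowers t := lt_of_le_of_ne le_sup_left fun e' =>
          htZ (e'.symm ▸ mem_sup_right (mem_zpowers t))
        have h1 : 2 * Nat.card Z ≤ Nat.card (Z ⊔ zpowers t : Subgroup G) :=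
          two_mul_card_le (hTp.to_le (sup_le inf_le_left (zpowers_le.2 ht))) hlt'
        omega
      apply htZ
      refine ⟨ht, mem_centralizer_iff.2 fun v hv => ?_⟩
      have hle : Z ⊔ zpowers t ≤ centralizer ({t} : Set G) := by
        refine sup_le (fun x hx => mem_centralizer_singleton_iff.2 ?_)
          (zpowers_le.2 (mem_centralizer_singleton_iff.2 rfl))
        exact (mem_centralizer_iff.1 hx.2 t ht).symm
      exact mem_centralizer_singleton_iff.1 (hle (hsup.symm ▸ hv))
    intro u hu v hv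
    exact (mem_centralizer_iff.1 ((hZT.symm ▸ hu : u ∈ Z)).2 v hv).symm
  set T1 := (S : Subgroup G) ⊓ N with hT1
  have hT1le : Nat.card T1 ≤ 64 := hT.card_normalizer_le h hM
  have hT1lt : T1 < (S : Subgroup G) := by
    refine lt_of_le_of_ne inf_le_left fun e' => ?_
    rw [e', h.card] at hT1le
    norm_num at hT1le
  obtain ⟨s, hs, hs1⟩ := SetLike.exists_of_lt
    (CfsgLib.Techniques.Fusion.lt_inf_normalizer (S.2 : IsPGroup 2 (S : Subgroup G)) hT1lt)
  have hTT1 : T ≤ T1 := le_inf hTS le_normalizer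
  set U := cj s T with hU
  have hUT1 : U ≤ T1 := by
    rw [hU, ← cj_eq_of_mem_normalizer hs.2]
    exact cj_mono hTT1
  have hUab : ∀ u ∈ U, ∀ v ∈ U, u * v = v * u := by
    rintro _ ⟨a, ha, rfl⟩ _ ⟨b, hb, rfl⟩
    show s * a * s⁻¹ * (s * b * s⁻¹) = s * b * s⁻¹ * (s * a * s⁻¹)
    rw [conj_mul, conj_mul, hab a ha b hb]
  have hUne : ¬ U ≤ T := fun hle =>
    hs1 ⟨hs.1, mem_normalizer_of_cj (Subgroup.eq_of_le_of_card_ge hle (card_cj _ _).ge)⟩
  set D := T ⊓ U with hD
  have hDE' : ∀ x ∈ D, x ∈ E' → x = 1 := by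
    intro x hx hx'
    by_contra h1
    exact hUne fun u hu => hCw x hx' h1 u (hUT1 hu).1 (hUab u hu x hx.2)
  have hDcard : 4 * Nat.card D ≤ Nat.card T := by
    have := hprod hDE' (inf_le_left : D ≤ T) hE'T
    rw [hE'card] at this
    nlinarith [hE4]
  have hED : E ≤ D := le_inf hET fun x hx => by
    rw [hU, mem_cj, show s⁻¹ * x * s = s⁻¹ * (x * s) by group, ← hEz x hx s hs.1,
      inv_mul_cancel_left]
    exact hET hx
  have hUc : Nat.card U = Nat.card T := card_cj _ _
  have hrel : T.relIndex U * Nat.card D = Nat.card T := by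
    rw [← hUc, ← inf_relIndex_right, relIndex]
    show (D.subgroupOf U).index * Nat.card D = Nat.card U
    rw [← Nat.card_congr (subgroupOfEquivOfLe (inf_le_right : D ≤ U)).toEquiv, index_mul_card]
  have hrel1 : T.relIndex T1 * Nat.card T = Nat.card T1 := by
    rw [relIndex, ← Nat.card_congr (subgroupOfEquivOfLe hTT1).toEquiv, index_mul_card]
  have hle_rel : T.relIndex U ≤ T.relIndex T1 := relIndex_le_of_le_right hUT1
    (Subgroup.index_ne_zero_of_finite)
  have hD4 : Nat.card E ≤ Nat.card D := Subgroup.card_le_of_le hED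
  have hrelU : 4 ≤ T.relIndex U := by
    have : 0 < Nat.card D := Nat.card_pos
    nlinarith
  have hT16 : Nat.card T = 16 := by
    have h1 : 16 ≤ Nat.card T := hZ16.trans (Subgroup.card_le_of_le inf_le_left)
    have h2 : 4 * Nat.card T ≤ 64 := by nlinarith
    omega
  have hrel4 : T.relIndex T1 = 4 := by
    rw [hT16] at hrel1
    nlinarith
  have hT1card : Nat.card T1 = 64 := by rw [← hrel1, hrel4, hT16]
  have hEE' : E ⊔ E' = T := by
    refine Subgroup.eq_of_le_of_card_ge (sup_le hET hE'T) ?_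
    have := hprod hdisj (le_sup_left : E ≤ E ⊔ E') (le_sup_right : E' ≤ E ⊔ E')
    rw [hE'card] at this
    rw [hT16]
    nlinarith
  have hTsq : ∀ v ∈ T, v * v = 1 := by
    let Q : Subgroup G :=
      { carrier := {v | v ∈ T ∧ v * v = 1}
        one_mem' := ⟨T.one_mem, mul_one 1⟩
        mul_mem' := fun {a b} ha hb => ⟨T.mul_mem ha.1 hb.1, by
          calc a * b * (a * b) = a * (b * a) * b := by group
            _ = (a * a) * (b * b) := by rw [hab b hb.1 a ha.1]; group
            _ = 1 := by rw [ha.2, hb.2, mul_one]⟩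
        inv_mem' := fun {a} ha => ⟨T.inv_mem ha.1, by rw [← mul_inv_rev, ha.2, inv_one]⟩ }
    have hEQ : E ⊔ E' ≤ Q := by
      refine sup_le (fun x hx => ⟨hET hx, hEsq x hx⟩) ?_
      rintro _ ⟨x, hx, rfl⟩
      refine ⟨hE'T ⟨x, hx, rfl⟩, ?_⟩
      show n * x * n⁻¹ * (n * x * n⁻¹) = 1
      rw [conj_mul, hEsq x hx]
      group
    intro v hv
    exact (hEQ (hEE'.symm ▸ hv)).2
  set X := (N ⧸ T.subgroupOf N) with hXdef
  haveI : (T.subgroupOf N).Normal := normal_in_normalizer
  set π := QuotientGroup.mk' (T.subgroupOf N) with hπ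
  set P := (T1.subgroupOf N).map π with hPdef
  have hπs : Function.Surjective π := QuotientGroup.mk'_surjective _
  have hker : π.ker ≤ T1.subgroupOf N := by
    rw [hπ, QuotientGroup.ker_mk']
    exact fun x hx => hTT1 hx
  have hidxP : P.index = T1.relIndex N := by
    rw [hPdef, Subgroup.index_map_eq _ hπs hker]
    rfl
  have hPidx_odd : Odd P.index := hidxP ▸ hT.odd
  have hTN : (T : Subgroup G) ≤ N := le_normalizer
  have hcardX : Nat.card X * 16 = Nat.card N := by
    have := Subgroup.card_eq_card_quotient_mul_card_subgroup (T.subgroupOf N)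
    rw [Nat.card_congr (subgroupOfEquivOfLe hTN).toEquiv, hT16] at this
    exact this.symm
  have hcardN : T1.relIndex N * 64 = Nat.card N := by
    rw [← hT1card, relIndex, ← Nat.card_congr
      (subgroupOfEquivOfLe (inf_le_right : T1 ≤ N)).toEquiv, index_mul_card]
  have hP4 : Nat.card P = 4 := by
    have h1 := P.card_mul_index
    rw [hidxP] at h1
    have hpos : 0 < T1.relIndex N := by rw [← hidxP]; exact hPidx_odd.pos
    nlinarith
  have hexp : ∀ t ∈ P, t * t = 1 := by
    rintro _ ⟨x, hx, rfl⟩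
    rw [← map_mul, hπ, QuotientGroup.mk'_apply, QuotientGroup.eq_one_iff]
    show (x : G) * x ∈ T
    have hTU : (T.subgroupOf T1) ⊔ (U.subgroupOf T1) = ⊤ := by
      haveI : (T.subgroupOf T1).Normal :=
        normal_subgroupOf_of_le_normalizer (inf_le_right : T1 ≤ N)
      have h1 := relIndex_sup_right (H := U.subgroupOf T1) (K := T.subgroupOf T1)
      have h2 : (T.subgroupOf T1).relIndex (U.subgroupOf T1) = T.relIndex U :=
        relIndex_subgroupOf hUT1
      rw [h2, sup_comm] at h1
      apply Subgroup.index_eq_one.1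
      have h3 := relIndex_mul_index (le_sup_left : T.subgroupOf T1 ≤ T.subgroupOf T1 ⊔ U.subgroupOf T1)
      rw [h1] at h3
      have h4 : (T.subgroupOf T1).index = 4 := hrel4
      rw [h4] at h3
      nlinarith [Nat.one_le_iff_ne_zero.2 (Subgroup.index_ne_zero_of_finite
        (H := T.subgroupOf T1 ⊔ U.subgroupOf T1))]
    haveI : (T.subgroupOf T1).Normal :=
      normal_subgroupOf_of_le_normalizer (inf_le_right : T1 ≤ N)
    have hx1 : (⟨(x : G), hx⟩ : T1) ∈ T.subgroupOf T1 ⊔ U.subgroupOf T1 := hTU ▸ mem_top _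
    rw [mem_sup_of_normal_left] at hx1
    obtain ⟨a, ha, b, hb, hab'⟩ := hx1
    have hxe : (x : G) = (a : G) * b := (congrArg Subtype.val hab').symm
    have hb2 : (b : G) * b = 1 := by
      obtain ⟨v, hv, hv'⟩ := hb
      have hv2 : s * v * s⁻¹ = (b : G) := hv'
      rw [← hv2]
      rw [conj_mul, hTsq v hv]
      group
    have hbn : (b : G) * a * (b : G)⁻¹ ∈ T :=
      (mem_normalizer_iff.1 b.2.2 a).1 ha
    rw [hxe, show (a : G) * b * (a * b) = a * ((b : G) * a * (b : G)⁻¹) * ((b : G) * b) by group,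
      hb2, mul_one]
    exact T.mul_mem ha hbn
  have hk5 : P.index ≤ 5 := by
    rw [hidxP]
    let g : Fin 3 × (N ⧸ T1.subgroupOf N) → {v : T // v ≠ 1} := fun q =>
      ⟨⟨((q.2.out : N) : G) * w q.1 * ((q.2.out : N) : G)⁻¹,
        (mem_normalizer_iff.1 (q.2.out : N).2 _).1 (hET (hw q.1).2)⟩, fun e' =>
        (hw q.1).1.2.1 (by simpa using congrArg Subtype.val e')⟩
    have hg : Function.Injective g := by
      rintro ⟨i, a⟩ ⟨j, b⟩ hij
      have h1 : ((a.out : N) : G) * w i * ((a.out : N) : G)⁻¹ =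
          ((b.out : N) : G) * w j * ((b.out : N) : G)⁻¹ :=
        congrArg (fun v : {v : T // v ≠ 1} => ((v : T) : G)) hij
      set c := ((b.out : N) : G)⁻¹ * ((a.out : N) : G) with hc
      have h2 : c * w i * c⁻¹ = w j := by
        rw [hc]
        calc _ = ((b.out : N) : G)⁻¹ * (((a.out : N) : G) * w i * ((a.out : N) : G)⁻¹) *
            ((b.out : N) : G) := by group
          _ = _ := by rw [h1]; group
      have h3 : c * w i * c⁻¹ = w i := eq_of_conj_central h (hw i).1 (h2.symm ▸ (hw j).1)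
      have hij' : i = j := hwinj (h3.symm.trans h2)
      subst hij'
      have h4 : c ∈ (S : Subgroup G) := mem_of_commute h (hw i).1 (by
        calc c * w i = (c * w i * c⁻¹) * c := by group
          _ = w i * c := by rw [h3])
      have h5 : b = a := by
        rw [← QuotientGroup.out_eq' b, ← QuotientGroup.out_eq' a, QuotientGroup.eq]
        exact ⟨h4, mul_mem (SetLike.coe_mem ((b.out : N)⁻¹)) (SetLike.coe_mem (a.out : N))⟩
      rw [h5]
    have := Nat.card_le_card_of_injective g hg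
    rw [Nat.card_prod, Nat.card_fin] at this
    have h15 : Nat.card {v : T // v ≠ 1} = 15 := by
      haveI := Fintype.ofFinite T
      rw [Nat.card_eq_fintype_card, Fintype.card_subtype_compl, Fintype.card_subtype_eq,
        ← Nat.card_eq_fintype_card, hT16]
    rw [h15] at this
    show (T1.subgroupOf N).index ≤ 5
    rw [Subgroup.index]
    omega
  obtain ⟨t, ht, ht1, htn⟩ := exists_common P hP4 hexp hk5 hPidx_odd (π ⟨n, hnN⟩)
  obtain ⟨x, hx, rfl⟩ := ht
  rw [← map_inv, ← map_mul, ← map_mul, hPdef, mem_map] at htn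
  obtain ⟨x', hx', hxe⟩ := htn
  have hnx : n⁻¹ * (x : G) * n ∈ T1 := by
    rw [hπ, QuotientGroup.mk'_apply, QuotientGroup.mk'_apply, QuotientGroup.eq] at hxe
    have h1 : (x' : G)⁻¹ * (n⁻¹ * x * n) ∈ T := hxe
    have := mul_mem (show (x' : G) ∈ T1 from hx') (hTT1 h1)
    rwa [mul_inv_cancel_left] at this
  have hxT : (x : G) ∈ T := hT.not_mem_inter hnN (fun _ _ => Iff.rfl)
    (show (x : G) ∈ T1 from hx).1 (mem_cj.2 hnx.1)
  exact ht1 ((QuotientGroup.eq_one_iff x).2 hxT)

end CfsgLib.ChainEight
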