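import Cfsg.Agent.Lib.ChainEight.NoFour
import Cfsg.Agent.Lib.BSW.Dihedral
import Cfsg.Agent.Lib.BSW.Recog
import Cfsg.Agent.Lib.BSW.Main
import Cfsg.Agent.Lib.PCore.Basic
import Cfsg.Agent.Lib.PSL2.Involution

/-!
Simple groups without chains of length nine and with Sylow 2-subgroups of order 128 are
`PSL₂(127)`: the Sylow 2-subgroup is dihedral and the centraliser of an involution, so the
Brauer–Suzuki–Wall theorem applies.
-/

set_option autoImplicit false
set_option linter.style.haveILetI false

namespace CfsgLib.ChainEight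

open Subgroup

universe u

theorem card_eq_127 {F : Type} [Field F] [Fintype F] (hodd : Odd (Fintype.card F))
    (hC : ∀ i : Matrix.ProjectiveSpecialLinearGroup (Fin 2) F, orderOf i = 2 →
      Nat.card (centralizer ({i} : Set (Matrix.ProjectiveSpecialLinearGroup (Fin 2) F))) = 128)
    (hi : ∃ i : Matrix.ProjectiveSpecialLinearGroup (Fin 2) F, orderOf i = 2) :
    Fintype.card F = 127 := by
  obtain ⟨i, hi⟩ := hi
  have h1 := CfsgLib.PSL2.card_centralizer_involution hodd hi
  rw [hC i hi] at h1
  have hq : IsPrimePow (Fintype.card F) := FiniteField.isPrimePow_card F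
  split_ifs at h1 with h4
  · exfalso
    have h129 : Fintype.card F = 129 := by omega
    rw [h129] at hq
    obtain ⟨p, hp, hu⟩ := isPrimePow_iff_unique_prime_dvd.1 hq
    have h3 := hu 3 ⟨by norm_num, by norm_num⟩
    have h43 := hu 43 ⟨by norm_num, by norm_num⟩
    omega
  · omega

theorem main {G : Type u} [Group G] [Finite G] [IsSimpleGroup G]
    (hG : ¬ IsMulCommutative G)
    (h9 : ∀ c : Fin 10 → Subgroup G, ¬ StrictAnti c)
    (S : Sylow 2 G) (hS : Nat.card ↥(S : Subgroup G) = 2 ^ 7) :
    ∃ (F : Type) (_ : Field F) (_ : Fintype F), Fintype.card F = 127 ∧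
      Nonempty (G ≃* Matrix.ProjectiveSpecialLinearGroup (Fin 2) F) := by
  haveI : Fact (Nat.Prime 2) := ⟨Nat.prime_two⟩
  have h : Setup G S := ⟨‹_›, hG, h9, hS⟩
  obtain ⟨n, hn, he⟩ := exists_dihedral h
  obtain ⟨z, hz, hzz⟩ := exists_central h
  have hord : orderOf z = 2 := orderOf_eq_prime (by rw [pow_two, hzz]) hz.2.1
  have hO : (Cfsg.oddCore (centralizer ({z} : Set G))).map
      (centralizer ({z} : Set G)).subtype = ⊥ := by
    rw [Subgroup.map_eq_bot_iff_of_injective _ (centralizer ({z} : Set G)).subtype_injective]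
    refine Subgroup.card_eq_one.1 ?_
    have hd := card_subgroup_dvd_card (Cfsg.oddCore (centralizer ({z} : Set G)))
    have hnd : ¬ 2 ∣ Nat.card (Cfsg.oddCore (centralizer ({z} : Set G))) :=
      CfsgLib.PCore.not_dvd_card_pPrimeCore
    have hcz : Nat.card (centralizer ({z} : Set G)) = 2 ^ 7 := by rw [centralizer_eq h hz, hS]
    rw [hcz] at hd
    obtain ⟨k, -, hk⟩ := (Nat.dvd_prime_pow Nat.prime_two).1 hd
    rcases k with _ | k
    · simpa using hk
    · exact absurd (hk ▸ dvd_pow_self 2 (Nat.succ_ne_zero k)) hnd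
  obtain ⟨e⟩ := he
  obtain ⟨K, s, hK⟩ := CfsgLib.BSW.exists_setup S hn e hord hz.1 hz.2.2 hO.symm
    (fun hc => absurd rfl hc) (fun s _ _ y hy => by rw [Subgroup.mem_bot.1 hy]; group)
    (fun Y hY hY' => absurd (le_bot_iff.1 hY) hY')
  obtain ⟨F, _, _, hodd, ⟨g⟩⟩ := CfsgLib.BSW.psl_of_concl (CfsgLib.BSW.concl_of_setup hK)
  refine ⟨F, inferInstance, inferInstance, card_eq_127 hodd ?_ ⟨g z, ?_⟩, ⟨g⟩⟩
  · intro i hi
    have hgz : orderOf (g z) = 2 := (g.orderOf_eq z).trans hord
    have hconj := CfsgLib.PSL2.isConj_of_orderOf_two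
      (CfsgLib.PSL2.two_ne_zero_of_odd hodd) hi hgz
    rw [CfsgLib.PSL2.card_centralizer_conj hconj]
    have e1 : (centralizer ({z} : Set G)).map g.toMonoidHom =
        centralizer ({g z} : Set (Matrix.ProjectiveSpecialLinearGroup (Fin 2) F)) := by
      ext v
      rw [Subgroup.mem_map_equiv, mem_centralizer_singleton_iff, mem_centralizer_singleton_iff]
      constructor <;> intro hv
      · have := congrArg g hv; simpa using this
      · apply g.injective; simpa using hv
    rw [← e1, Subgroup.card_map_of_injective g.injective, centralizer_eq h hz, hS]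
    norm_num
  · exact (g.orderOf_eq z).trans hord

end CfsgLib.ChainEight
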