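import Cfsg.Agent.Lib.ChainEight.Split
import Cfsg.Agent.Lib.ChainEight.CentralFour
import Cfsg.Agent.Lib.TwoGroups.Semidihedral
import Cfsg.Agent.Lib.TwoGroups.OneInvolution
import Cfsg.Agent.Lib.Involutions.Transfer
import Cfsg.Agent.Lib.RankTwoTypes.Basic
import Cfsg.Agent.Lib.TwoGroups85.SectionalRankTwo
import Cfsg.Agent.S0519

/-!
The Sylow 2-subgroup is dihedral.
-/

set_option autoImplicit false
set_option linter.unusedSectionVars false
set_option linter.style.haveILetI false

namespace CfsgLib.ChainEight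

open Subgroup CfsgLib.TwoGroups.FT

variable {G : Type*} [Group G] [Finite G] {S : Sylow 2 G}

/-- Transfer of an element of order four squaring to the only involution that is a square. -/
theorem no_square (h : Setup G S) (M : Subgroup (S : Subgroup G)) (hM : M.index = 2)
    (y w : (S : Subgroup G)) (hy : y ∉ M) (hyw : y * y = w) (hw1 : w ≠ 1) (hww : w * w = 1)
    (hinv : ∀ g : (S : Subgroup G), g * g = 1 → g ∈ M)
    (hsq : ∀ g : (S : Subgroup G), g * g * (g * g) = 1 → g * g = 1 ∨ g * g = w) : False := by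
  classical
  haveI := h.simple
  haveI : Fact (Nat.Prime 2) := ⟨Nat.prime_two⟩
  have hwc : Central S (w : G) := by
    refine ⟨w.2, fun e => hw1 (Subtype.ext e), fun s hs => ?_⟩
    set g : (S : Subgroup G) := ⟨s, hs⟩ * y * (⟨s, hs⟩ : (S : Subgroup G))⁻¹ with hg
    have h1 : g * g = ⟨s, hs⟩ * w * (⟨s, hs⟩ : (S : Subgroup G))⁻¹ := by
      rw [hg, conj_mul, hyw]
    rcases hsq g (by rw [h1, conj_mul, hww, mul_one, mul_inv_cancel]) with h2 | h2 <;> rw [h1] at h2
    · exact absurd (by simpa using h2) hw1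
    · have h3 : s * (w : G) * s⁻¹ = w := congrArg Subtype.val h2
      calc s * (w : G) = (s * w * s⁻¹) * s := by group
        _ = _ := by rw [h3]
  let φ : (S : Subgroup G) →* ℤˣ :=
    { toFun := fun x => if x ∈ M then 1 else -1
      map_one' := if_pos M.one_mem
      map_mul' := fun a b => by
        have := mul_mem_iff_of_index_two hM (a := a) (b := b)
        by_cases ha : a ∈ M <;> by_cases hb : b ∈ M <;> simp [ha, hb, this] }
  have hconjM : ∀ (t a : (S : Subgroup G)), t⁻¹ * a * t ∈ M ↔ a ∈ M := fun t a => by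
    rw [mul_mem_iff_of_index_two hM, mul_mem_iff_of_index_two hM, inv_mem_iff]
    tauto
  haveI : Fintype (Quotient (MulAction.orbitRel (zpowers (y : G)) (G ⧸ (S : Subgroup G)))) :=
    Fintype.ofFinite _
  have hval : φ.transfer (y : G) = -1 := by
    rw [MonoidHom.transfer_eq_prod_quotient_orbitRel_zpowers_quot]
    set c₀ : G ⧸ (S : Subgroup G) := ((1 : G) : G ⧸ (S : Subgroup G)) with hc₀
    set q₀ : Quotient (MulAction.orbitRel (zpowers (y : G)) (G ⧸ (S : Subgroup G))) :=
      Quotient.mk _ c₀ with hq₀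
    have hfix : ∀ v : zpowers (y : G), v • c₀ = c₀ := by
      rintro ⟨v, hv⟩
      show ((v * 1 : G) : G ⧸ (S : Subgroup G)) = _
      rw [hc₀, QuotientGroup.eq, mul_one]
      simpa using (zpowers_le.2 y.2) hv
    have hout : q₀.out = c₀ := by
      have h1 : (MulAction.orbitRel (zpowers (y : G)) (G ⧸ (S : Subgroup G))) q₀.out c₀ :=
        Quotient.mk_out c₀
      rw [MulAction.orbitRel_apply, MulAction.mem_orbit_iff] at h1
      obtain ⟨v, hv⟩ := h1
      rw [← hv, hfix]
    have hy4 : (y : G) ^ 4 = 1 := by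
      have h1 : ((y * y : (S : Subgroup G)) : G) * ((y * y : (S : Subgroup G)) : G) = 1 := by
        rw [hyw]; exact congrArg Subtype.val hww
      calc (y : G) ^ 4 = (y * y) * (y * y) := by simp [pow_succ, mul_assoc]
        _ = 1 := h1
    rw [Finset.prod_eq_single q₀]
    · set g := q₀.out.out with hg
      have hgS : g ∈ (S : Subgroup G) := by
        have h1 : (g : G ⧸ (S : Subgroup G)) = c₀ := by rw [hg, QuotientGroup.out_eq', hout]
        rw [hc₀, QuotientGroup.eq, mul_one] at h1
        simpa using inv_mem h1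
      have hm : Function.minimalPeriod ((y : G) • ·) q₀.out = 1 := by
        rw [Function.minimalPeriod_eq_one_iff_isFixedPt, hout]
        exact hfix ⟨(y : G), mem_zpowers _⟩
      refine if_neg ?_
      intro hmem
      refine hy ((hconjM ⟨g, hgS⟩ y).1 ?_)
      convert hmem using 1
      exact Subtype.ext (by simp [hg, hm])
    · intro q _ hq
      set g := q.out.out with hg
      set m := Function.minimalPeriod ((y : G) • ·) q.out with hm
      refine if_pos (hinv _ (Subtype.ext ?_))
      show g⁻¹ * (y : G) ^ m * g * (g⁻¹ * (y : G) ^ m * g) = 1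
      have hmem := QuotientGroup.out_conj_pow_minimalPeriod_mem (S : Subgroup G) (y : G) q.out
      rw [← hm, ← hg] at hmem
      have hdvd : m ∣ 4 := by
        rw [hm, ← Function.isPeriodicPt_iff_minimalPeriod_dvd]
        show ((y : G) • ·)^[4] q.out = q.out
        rw [smul_iterate, hy4]
        exact one_smul G q.out
      have hm1 : m ≠ 1 := by
        intro e
        apply hq
        rw [e, pow_one] at hmem
        set u : (S : Subgroup G) := ⟨g⁻¹ * (y : G) * g, hmem⟩
        have hu : ((u * u : (S : Subgroup G)) : G) = g⁻¹ * (w : G) * g := by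
          rw [← hyw]
          show g⁻¹ * (y : G) * g * (g⁻¹ * (y : G) * g) = g⁻¹ * ((y : G) * y) * g
          group
        have hgS : g ∈ (S : Subgroup G) := by
          rcases hsq u (Subtype.ext (by
            rw [Subgroup.coe_mul, hu]
            show g⁻¹ * (w : G) * g * (g⁻¹ * (w : G) * g) = 1
            calc _ = g⁻¹ * ((w * w : (S : Subgroup G)) : G) * g := by push_cast; group
              _ = 1 := by rw [hww]; simp)) with h1 | h1
          · refine absurd (Subtype.ext ?_) hw1
            have h2 : g⁻¹ * (w : G) * g = 1 := by rw [← hu, h1]; rfl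
            calc (w : G) = g * (g⁻¹ * w * g) * g⁻¹ := by group
              _ = 1 := by rw [h2]; group
          · refine mem_of_commute h hwc ?_
            have h2 : g⁻¹ * (w : G) * g = w := by rw [← hu, h1]
            calc g * (w : G) = g * (g⁻¹ * w * g) := by rw [h2]
              _ = _ := by group
        have h3 : q.out = c₀ := by
          rw [← QuotientGroup.out_eq' q.out, ← hg, hc₀, QuotientGroup.eq, mul_one]
          exact inv_mem hgS
        rw [hq₀, ← h3, Quotient.out_eq]
      obtain ⟨j, hj⟩ : ∃ j, m + m = 4 * j := by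
        obtain ⟨i, -, hi⟩ := (Nat.dvd_prime_pow Nat.prime_two).1 (show m ∣ 2 ^ 2 by simpa using hdvd)
        rcases i with _ | _ | i
        · simp at hi; omega
        · exact ⟨1, by rw [hi]; norm_num⟩
        · refine ⟨2 ^ (i + 1), ?_⟩
          rw [hi, show (i + 1 + 1) = (i + 1) + 1 from rfl, pow_succ]; ring
      rw [show g⁻¹ * (y : G) ^ m * g * (g⁻¹ * (y : G) ^ m * g) = g⁻¹ * (y : G) ^ (m + m) * g by
        rw [pow_add]; group, hj, pow_mul, hy4, one_pow, mul_one, inv_mul_cancel]
    · exact fun hc => absurd (Finset.mem_univ _) hc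
  rcases IsSimpleGroup.eq_bot_or_eq_top_of_normal φ.transfer.ker inferInstance with e | e
  · refine h.noncomm ⟨⟨fun a b => ?_⟩⟩
    apply (MonoidHom.ker_eq_bot_iff _).1 e
    rw [map_mul, map_mul, mul_comm]
  · have h1 : (y : G) ∈ φ.transfer.ker := e ▸ mem_top _
    rw [MonoidHom.mem_ker, hval] at h1
    norm_num at h1

theorem exists_half (h : Setup G S) : ∃ M, Half S M := by
  haveI : Fact (Nat.Prime 2) := ⟨Nat.prime_two⟩
  obtain ⟨K, hK⟩ := Sylow.exists_subgroup_card_pow_prime (G := (S : Subgroup G)) 2 (n := 6)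
    (by rw [h.card]; norm_num)
  have hidx : K.index = 2 := by
    have := K.card_mul_index
    rw [hK, h.card] at this
    omega
  refine ⟨K.map (S : Subgroup G).subtype, map_subtype_le _, fun a ha b hb => ?_, ?_⟩
  · have hiff : ∀ (v : G) (hv : v ∈ (S : Subgroup G)),
        v ∈ K.map (S : Subgroup G).subtype ↔ (⟨v, hv⟩ : (S : Subgroup G)) ∈ K := fun v hv => by
      constructor
      · rintro ⟨v', hv', rfl⟩; exact hv'
      · exact fun hh => ⟨_, hh, rfl⟩
    rw [hiff _ (mul_mem ha hb), hiff _ ha, hiff _ hb]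
    exact mul_mem_iff_of_index_two hidx (a := ⟨a, ha⟩) (b := ⟨b, hb⟩)
  · have hne : K ≠ ⊤ := fun e => by rw [e, index_top] at hidx; norm_num at hidx
    obtain ⟨v, -, hv⟩ := SetLike.exists_of_lt (lt_top_iff_ne_top.2 hne)
    exact ⟨v, v.2, fun ⟨v', hv', hvv⟩ => hv ((Subtype.ext hvv : v' = v) ▸ hv')⟩

theorem central_unique (h : Setup G S) {z e : G} (hz : Central S z) (hzz : z * z = 1)
    (he : Central S e) (hee : e * e = 1) : e = z := by
  by_contra hne
  obtain ⟨M, hM⟩ := exists_half h
  exact no_central_four h hM hz hzz he hee hne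

theorem no_normal_elementary (h : Setup G S) {z : (S : Subgroup G)} (hz : Central S (z : G))
    (hzz : z * z = 1) (W : Subgroup (S : Subgroup G)) (hWn : W.Normal)
    (hW : ∀ a ∈ W, a * a = 1) : W ≤ zpowers z := by
  by_contra hle
  haveI : Fact (Nat.Prime 2) := ⟨Nat.prime_two⟩
  set Z : Subgroup (S : Subgroup G) := zpowers z with hZ
  have hzc : ∀ s : (S : Subgroup G), s * z = z * s := fun s => Subtype.ext (hz.2.2 _ s.2)
  have hcases : ∀ v ∈ Z, v = 1 ∨ v = z := fun v hv =>
    CfsgLib.TwoGroups85.zpowers_cases (by rw [pow_two, hzz]) hv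
  haveI : Z.Normal := ⟨fun v hv s => by
    rcases hcases v hv with rfl | rfl
    · simp
    · rw [hzc, mul_inv_cancel_right]; exact mem_zpowers _⟩
  haveI : (W.map (QuotientGroup.mk' Z)).Normal := hWn.map _ (QuotientGroup.mk'_surjective _)
  have hne : W.map (QuotientGroup.mk' Z) ≠ ⊥ := fun e => hle (by
    rw [Subgroup.map_eq_bot_iff, QuotientGroup.ker_mk'] at e; exact e)
  obtain ⟨q, hq, hqc, hq1, -⟩ :=
    CfsgLib.TwoGroups85.exists_central_involution_mem (S.2.to_quotient Z) hne
  obtain ⟨e, heW, rfl⟩ := hq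
  have heZ : e ∉ Z := fun hh => hq1 ((QuotientGroup.eq_one_iff e).2 hh)
  have hconj : ∀ s : (S : Subgroup G), s * e = e * s ∨ s * e = e * z * s := by
    intro s
    have h1 := mem_center_iff.1 hqc (QuotientGroup.mk' Z s)
    rw [← map_mul, ← map_mul, QuotientGroup.mk'_apply, QuotientGroup.mk'_apply,
      QuotientGroup.eq] at h1
    rcases hcases _ h1 with h2 | h2
    · exact Or.inl (inv_mul_eq_one.1 h2)
    · refine Or.inr ?_
      calc s * e = (e * s) * ((s * e)⁻¹ * (e * s))⁻¹ := by group
        _ = (e * s) * z⁻¹ := by rw [h2]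
        _ = e * (s * z) := by rw [inv_eq_of_mul_eq_one_right hzz]; group
        _ = _ := by rw [hzc s]; group
  have hee : (e : G) * e = 1 := congrArg Subtype.val (hW e heW)
  by_cases hcen : ∀ s : (S : Subgroup G), s * e = e * s
  · apply heZ
    have he : Central S (e : G) :=
      ⟨e.2, fun hh => heZ (by rw [show e = 1 from Subtype.ext hh]; exact one_mem _),
        fun s hs => congrArg Subtype.val (hcen ⟨s, hs⟩)⟩
    have := central_unique h hz (congrArg Subtype.val hzz) he hee
    rw [show e = z from Subtype.ext this]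
    exact mem_zpowers _
  · push Not at hcen
    obtain ⟨s₀, hs₀⟩ := hcen
    exact no_split h hz (congrArg Subtype.val hzz) e.2 hee
      (fun s hs => (hconj ⟨s, hs⟩).imp (congrArg Subtype.val) (congrArg Subtype.val))
      ⟨s₀, s₀.2, fun hh => hs₀ (Subtype.ext hh)⟩

open CfsgLib.TwoGroups.SD in
theorem not_quasiDihedral (h : Setup G S) : ¬ Cfsg.IsQuasiDihedral (S : Subgroup G) := by
  intro hq
  obtain ⟨r, x, y, hsd⟩ := exists_sd hq
  have hr := r_pos hsd
  have hord : ∀ g : (S : Subgroup G), g * g = 1 → g ≠ 1 → orderOf g = 2 := fun g hg hg1 =>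
    orderOf_eq_prime (by rw [pow_two, hg]) hg1
  have hx4 : orderOf (x ^ (4 * r : ℤ)) = 2 := by
    rw [orderOf_zpow_eq_two hsd]
  refine no_square h (dih x y) (index_dih hsd) (x ^ (1 : ℤ) * y) (x ^ (4 * r : ℤ)) ?_ ?_ ?_ ?_ ?_ ?_
  · intro hm
    have hy : y ∈ dih x y := subset_closure (Or.inr rfl)
    have hx : x ∈ dih x y := by
      have := mul_mem hm (inv_mem hy)
      simpa using this
    have htop : dih x y = ⊤ := eq_top_iff.2 fun g _ => by
      obtain ⟨k, rfl | rfl⟩ := hsd.gen g
      · exact zpow_mem hx k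
      · exact mul_mem (zpow_mem hx k) hy
    have := index_dih hsd
    rw [htop, index_top] at this
    norm_num at this
  · rw [← pow_two, xy_sq hsd, mul_one]
  · intro e; rw [e, orderOf_one] at hx4; norm_num at hx4
  · have h1 := pow_orderOf_eq_one (x ^ (4 * r : ℤ))
    rwa [hx4, pow_two] at h1
  · intro g hg
    by_cases hg1 : g = 1
    · rw [hg1]; exact one_mem _
    have hx2 : x ^ (2 : ℤ) ∈ dih x y := subset_closure (Or.inl rfl)
    rcases involution_cases hsd (hord g hg hg1) with rfl | ⟨a, ⟨b, rfl⟩, rfl⟩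
    · rw [show (4 * r : ℤ) = 2 * (2 * r) by ring, zpow_mul]; exact zpow_mem hx2 _
    · rw [show b + b = 2 * b by ring, zpow_mul]
      exact mul_mem (zpow_mem hx2 _) (subset_closure (Or.inr rfl))
  · intro g hg
    by_cases hg1 : g * g = 1
    · exact Or.inl hg1
    have hgx : g * g ∈ zpowers x := mul_self_mem_of_index_two (index_zpowers hsd) g
    obtain ⟨k, hk⟩ := hgx
    simp only at hk
    refine Or.inr ?_
    rw [← hk] at hg hg1 ⊢
    exact (orderOf_zpow_eq_two hsd).1 (hord _ hg hg1)

theorem not_quaternion (h : Setup G S) {m : ℕ} (hm : 1 ≤ m) :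
    ¬ Nonempty ((S : Subgroup G) ≃* QuaternionGroup m) := by
  rintro ⟨e⟩
  haveI : NeZero m := ⟨by omega⟩
  haveI : NeZero (2 * m) := ⟨by omega⟩
  let A : Subgroup (QuaternionGroup m) := zpowers (QuaternionGroup.a 1)
  have hA : A.index = 2 := by
    have := A.card_mul_index
    rw [Nat.card_zpowers, QuaternionGroup.orderOf_a_one, Nat.card_eq_fintype_card,
      QuaternionGroup.card] at this
    apply Nat.eq_of_mul_eq_mul_left (show 0 < 2 * m by omega)
    rw [this]; ring
  have hxa : ∀ i, QuaternionGroup.xa i ∉ A := by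
    intro i hi
    rw [← (mem_powers_iff_mem_zpowers)] at hi
    obtain ⟨k, hk⟩ := hi
    simp only [QuaternionGroup.a_one_pow] at hk
    cases hk
  have hw : orderOf (QuaternionGroup.xa (0 : ZMod (2 * m)) ^ 2 : QuaternionGroup m) = 2 := by
    rw [orderOf_pow' _ two_ne_zero, QuaternionGroup.orderOf_xa]
    norm_num
  set y := e.symm (QuaternionGroup.xa 0) with hy
  have huniq : ∀ g : (S : Subgroup G), g * g = 1 → g = 1 ∨ g = y * y := by
    intro g hg
    by_cases hg1 : g = 1
    · exact Or.inl hg1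
    refine Or.inr (CfsgLib.RankTwoTypes.quat_one e (orderOf_eq_prime (by rw [pow_two, hg]) hg1) ?_)
    rw [← pow_two, ← orderOf_injective e.toMonoidHom e.injective]
    simpa [hy] using hw
  refine no_square h (A.comap e.toMonoidHom) ?_ y (y * y) ?_ rfl ?_ ?_ ?_ fun g hg => huniq _ hg
  · rw [Subgroup.index_comap_of_surjective _ e.surjective, hA]
  · simp [hy, Subgroup.mem_comap, hxa]
  · intro hh
    have := congrArg e hh
    simp only [map_mul, map_one, hy, MulEquiv.apply_symm_apply] at this
    rw [← pow_two] at this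
    rw [this, orderOf_one] at hw
    norm_num at hw
  · apply e.injective
    simp only [map_mul, map_one, hy, MulEquiv.apply_symm_apply]
    have h1 := pow_orderOf_eq_one (QuaternionGroup.xa (0 : ZMod (2 * m)) ^ 2 : QuaternionGroup m)
    rwa [hw, pow_two, pow_two] at h1
  · intro g hg
    rcases huniq g hg with rfl | rfl
    · exact one_mem _
    · rw [Subgroup.mem_comap]
      simp only [MulEquiv.coe_toMonoidHom, map_mul, hy, MulEquiv.apply_symm_apply]
      exact mul_self_mem_of_index_two hA _

theorem exists_dihedral (h : Setup G S) :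
    ∃ n : ℕ, 2 ≤ n ∧ Nonempty ((S : Subgroup G) ≃* DihedralGroup n) := by
  haveI : Fact (Nat.Prime 2) := ⟨Nat.prime_two⟩
  haveI := h.simple
  obtain ⟨z₀, hz, hzz₀⟩ := exists_central h
  obtain ⟨z, rfl⟩ : ∃ z : (S : Subgroup G), (z : G) = z₀ := ⟨⟨z₀, hz.1⟩, rfl⟩
  have hzz : z * z = 1 := Subtype.ext hzz₀
  have hz1 : z ≠ 1 := fun e => hz.2.1 (congrArg Subtype.val e)
  by_cases hone : ∀ a b : (S : Subgroup G), orderOf a = 2 → orderOf b = 2 → a = b
  · rcases CfsgLib.TwoGroups.OneInvolution.isCyclic_or_quaternion S.2 hone with hc | ⟨n, -, he⟩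
    · exfalso
      have heven : Even (Nat.card G) := by
        rw [even_iff_two_dvd]
        exact (show 2 ∣ Nat.card (S : Subgroup G) by rw [h.card]; norm_num).trans
          (card_subgroup_dvd_card _)
      obtain ⟨K, hK⟩ := CfsgLib.Involutions.exists_index_two_of_cyclic_sylow heven S hc
      haveI := Subgroup.normal_of_index_eq_two hK
      rcases IsSimpleGroup.eq_bot_or_eq_top_of_normal K inferInstance with e | e <;> rw [e] at hK
      · rw [Subgroup.index_bot] at hK
        have h1 := card_subgroup_dvd_card (S : Subgroup G)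
        rw [hK, h.card] at h1
        norm_num at h1
      · rw [Subgroup.index_top] at hK
        norm_num at hK
    · exact absurd he (not_quaternion h Nat.one_le_two_pow)
  push Not at hone
  obtain ⟨a, b, ha, hb, hab⟩ := hone
  obtain ⟨u, hu, huz⟩ : ∃ u : (S : Subgroup G), orderOf u = 2 ∧ u ≠ z := by
    by_cases h1 : a = z
    · exact ⟨b, hb, fun e => hab (h1.trans e.symm)⟩
    · exact ⟨a, ha, h1⟩
  have hcyc : ∀ A : Subgroup (S : Subgroup G), A.Normal → IsMulCommutative A → IsCyclic A := by
    intro A hAn hA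
    have hcomm : ∀ p ∈ A, ∀ q ∈ A, p * q = q * p := fun p hp q hq =>
      congrArg Subtype.val (hA.is_comm.comm ⟨p, hp⟩ ⟨q, hq⟩)
    let W : Subgroup (S : Subgroup G) :=
      { carrier := {p | p ∈ A ∧ p * p = 1}
        one_mem' := ⟨A.one_mem, mul_one 1⟩
        mul_mem' := fun {p q} hp hq => ⟨A.mul_mem hp.1 hq.1, by
          calc p * q * (p * q) = p * (q * p) * q := by group
            _ = (p * p) * (q * q) := by rw [hcomm q hq.1 p hp.1]; group
            _ = 1 := by rw [hp.2, hq.2, mul_one]⟩
        inv_mem' := fun {p} hp => ⟨A.inv_mem hp.1, by rw [← mul_inv_rev, hp.2, inv_one]⟩ }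
    have hWn : W.Normal := ⟨fun p hp g => ⟨hAn.conj_mem p hp.1 g, by
      rw [conj_mul, hp.2, mul_one, mul_inv_cancel]⟩⟩
    have hWz := no_normal_elementary h hz hzz W hWn fun p hp => hp.2
    have hin : ∀ p : A, orderOf p = 2 → (p : (S : Subgroup G)) = z := by
      intro p hp
      rw [← orderOf_coe] at hp
      have hp2 := pow_orderOf_eq_one (p : (S : Subgroup G))
      rw [hp, pow_two] at hp2
      have hm : (p : (S : Subgroup G)) ∈ zpowers z := hWz ⟨p.2, hp2⟩
      refine (CfsgLib.TwoGroups85.zpowers_cases (by rw [pow_two, hzz]) hm).resolve_left fun e => ?_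
      rw [e, orderOf_one] at hp
      norm_num at hp
    obtain ⟨g, -, hg⟩ := CfsgLib.TwoGroups.OneInvolution.exists_generator (S.2.to_subgroup A)
      (fun p q hp hq => Subtype.ext ((hin p hp).trans (hin q hq).symm)) ⊤
      ⟨⟨fun p q => Subtype.ext (hA.is_comm.comm p.1 q.1)⟩⟩
    exact ⟨⟨g, fun p => hg.le (mem_top p)⟩⟩
  have hm : ∃ B : Subgroup (S : Subgroup G), IsMulCommutative B ∧ ¬ IsCyclic B := by
    have hzu : z * u = u * z := Subtype.ext (hz.2.2 _ u.2).symm
    refine ⟨closure {z, u}, Subgroup.isMulCommutative_closure (by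
      rintro p (rfl | rfl) q (rfl | rfl) <;> first | rfl | exact hzu | exact hzu.symm), fun hB => ?_⟩
    haveI := hB
    have h1 : orderOf (⟨z, subset_closure (Or.inl rfl)⟩ : closure ({z, u} : Set (S : Subgroup G))) = 2 := by
      rw [← orderOf_coe]; exact orderOf_eq_prime (by rw [pow_two, hzz]) hz1
    have h2 : orderOf (⟨u, subset_closure (Or.inr rfl)⟩ : closure ({z, u} : Set (S : Subgroup G))) = 2 := by
      rw [← orderOf_coe]; exact hu
    exact huz (congrArg Subtype.val (CfsgLib.Involutions.involution_unique_of_cyclic h1 h2)).symm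
  obtain ⟨-, ⟨n, ⟨e⟩⟩ | ⟨n, hn, e⟩ | hq⟩ := Cfsg.Agent.S0519.result 2 S.2 hcyc hm
  · exact absurd (CfsgLib.RankTwoTypes.quat_one e ha hb) hab
  · exact ⟨n, by omega, e⟩
  · exact absurd hq (not_quasiDihedral h)

end CfsgLib.ChainEight
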