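import Cfsg.Agent.Lib.ChainEight.Tame

/-!
No normal four-group `⟨z, e⟩` of `S` has a non-central element.
-/

set_option autoImplicit false
set_option linter.unusedSectionVars false
set_option linter.style.haveILetI false

namespace CfsgLib.ChainEight

open Subgroup CfsgLib.TwoGroups.FT

variable {G : Type*} [Group G] [Finite G] {S : Sylow 2 G}

/-- `C_S(e)` has index two when `e` has exactly the conjugates `e` and `e z`. -/
theorem half_centralizer {z e : G} (hz : Central S z) (hzz : z * z = 1)
    (hconj : ∀ s ∈ (S : Subgroup G), s * e = e * s ∨ s * e = e * z * s)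
    (hmove : ∃ s ∈ (S : Subgroup G), s * e ≠ e * s) :
    Half S ((S : Subgroup G) ⊓ centralizer ({e} : Set G)) := by
  have mem : ∀ s ∈ (S : Subgroup G),
      s ∈ (S : Subgroup G) ⊓ centralizer ({e} : Set G) ↔ s * e = e * s := fun s hs =>
    ⟨fun h => mem_centralizer_singleton_iff.1 h.2, fun h => ⟨hs, mem_centralizer_singleton_iff.2 h⟩⟩
  refine ⟨inf_le_left, fun a ha b hb => ?_, ?_⟩
  · rw [mem _ (mul_mem ha hb), mem _ ha, mem _ hb]
    have hza : a * z = z * a := hz.2.2 a ha
    have hne : ∀ x : G, e * x ≠ e * z * x := fun x hc => hz.2.1 (by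
      have := mul_right_cancel hc
      simpa using this)
    rcases hconj a ha with h1 | h1 <;> rcases hconj b hb with h2 | h2
    · exact iff_of_true (by rw [mul_assoc, h2, ← mul_assoc, h1, mul_assoc]) (iff_of_true h1 h2)
    · refine iff_of_false (fun hc => ?_) (fun hc => hne b ((hc.1 h1).symm.trans h2))
      apply hne (a * b)
      rw [← hc]
      calc a * b * e = a * (e * z * b) := by rw [mul_assoc, h2]
        _ = (a * e) * z * b := by group
        _ = e * (a * z) * b := by rw [h1]; group
        _ = _ := by rw [hza]; group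
    · refine iff_of_false (fun hc => ?_) (fun hc => hne a ((hc.2 h2).symm.trans h1))
      apply hne (a * b)
      rw [← hc]
      calc a * b * e = (a * e) * b := by rw [mul_assoc, h2, ← mul_assoc]
        _ = _ := by rw [h1]; group
    · refine iff_of_true ?_ (iff_of_false (fun hc => hne a (hc.symm.trans h1))
        (fun hc => hne b (hc.symm.trans h2)))
      calc a * b * e = a * (e * z * b) := by rw [mul_assoc, h2]
        _ = (a * e) * z * b := by group
        _ = e * z * (a * z) * b := by rw [h1]; group
        _ = e * (z * z) * a * b := by rw [hza]; group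
        _ = _ := by rw [hzz]; group
  · obtain ⟨s, hs, hse⟩ := hmove
    exact ⟨s, hs, fun h => hse ((mem s hs).1 h)⟩

theorem no_split (h : Setup G S) {z e : G} (hz : Central S z) (hzz : z * z = 1)
    (he : e ∈ (S : Subgroup G)) (hee : e * e = 1)
    (hconj : ∀ s ∈ (S : Subgroup G), s * e = e * s ∨ s * e = e * z * s)
    (hmove : ∃ s ∈ (S : Subgroup G), s * e ≠ e * s) : False := by
  haveI : Fact (Nat.Prime 2) := ⟨Nat.prime_two⟩
  set M := (S : Subgroup G) ⊓ centralizer ({e} : Set G) with hMdef
  have hM : Half S M := half_centralizer hz hzz hconj hmove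
  obtain ⟨T, n, hT⟩ := exists_tame h hM
  set N := normalizer (T : Set G) with hNdef
  have hnN : n ∈ N := hT.mem
  have hTS := hT.le_sylow
  have hTn : T ≤ cj n (S : Subgroup G) := hT.eq ▸ inf_le_right
  have memM : ∀ v ∈ T, v ∈ M ↔ v * e = e * v := fun v hv =>
    ⟨fun hc => mem_centralizer_singleton_iff.1 hc.2,
      fun hc => ⟨hTS hv, mem_centralizer_singleton_iff.2 hc⟩⟩
  set y := n * z * n⁻¹ with hy
  set f := n * e * n⁻¹ with hf
  have hzT : z ∈ T := hT.central_mem hz
  have hyT : y ∈ T := (mem_normalizer_iff.1 hnN z).1 hzT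
  have valM : ∀ v ∈ T, n⁻¹ * v * n ∈ M ↔ v * f = f * v := fun v hv => by
    rw [memM _ (hT.conj_mem hnN hv), hf]
    constructor
    · intro hc
      calc v * (n * e * n⁻¹) = n * ((n⁻¹ * v * n) * e) * n⁻¹ := by group
        _ = n * (e * (n⁻¹ * v * n)) * n⁻¹ := by rw [hc]
        _ = _ := by group
    · intro hc
      calc n⁻¹ * v * n * e = n⁻¹ * (v * (n * e * n⁻¹)) * n := by group
        _ = n⁻¹ * ((n * e * n⁻¹) * v) * n := by rw [hc]
        _ = _ := by group
  have hzc : ∀ v ∈ T, v * z = z * v := fun v hv => hz.2.2 v (hTS hv)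
  have hyc : ∀ v ∈ T, v * y = y * v := fun v hv => commute_of_mem_cj hz (hTn hv)
  have hze : z * e = e * z := (hz.2.2 e he).symm
  have hyf : y * f = f * y := by
    rw [hy, hf]
    calc n * z * n⁻¹ * (n * e * n⁻¹) = n * (z * e) * n⁻¹ := by group
      _ = _ := by rw [hze]; group
  have hyy : y * y = 1 := by rw [hy, conj_mul, hzz]; group
  have hyz : y ≠ z := fun e' => hT.notMem hM <| mem_of_commute h hz <| by
    rw [hy] at e'
    calc n * z = (n * z * n⁻¹) * n := by group
      _ = z * n := by rw [e']
  have hy1 : y ≠ 1 := fun e' => hz.2.1 (by rw [hy] at e'; simpa using e')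
  by_cases heT : e ∈ T
  · -- `T` is too large
    have hfT : f ∈ T := (mem_normalizer_iff.1 hnN e).1 heT
    obtain ⟨u, huT, hu⟩ := hT.exists_ne
    rw [valM u huT, memM u huT] at hu
    have hex : ∃ w ∈ T, w * e ≠ e * w := by
      by_contra hc
      push Not at hc
      refine hu (iff_of_true ?_ (hc u huT))
      exact (valM u huT).1 ((memM _ (hT.conj_mem hnN huT)).2 (hc _ (hT.conj_mem hnN huT)))
    obtain ⟨w₀, hw₀, hw₀e⟩ := hex
    have hex2 : ∃ w ∈ T, w * f ≠ f * w := by
      refine ⟨n * w₀ * n⁻¹, (mem_normalizer_iff.1 hnN w₀).1 hw₀, fun hc => hw₀e ?_⟩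
      have := (memM _ (hT.conj_mem hnN ((mem_normalizer_iff.1 hnN w₀).1 hw₀))).1
        ((valM _ ((mem_normalizer_iff.1 hnN w₀).1 hw₀)).2 hc)
      simpa [mul_assoc] using this
    set A := T ⊓ centralizer ({e} : Set G) with hA
    set K := A ⊓ centralizer ({f} : Set G) with hK
    have hw : ∃ w ∈ A, w * f ≠ f * w := by
      by_cases h1 : u * e = e * u
      · exact ⟨u, ⟨huT, mem_centralizer_singleton_iff.2 h1⟩, fun h2 => hu (iff_of_true h2 h1)⟩
      · have h2 : u * f = f * u := by tauto
        obtain ⟨w, hwT, hwf⟩ := hex2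
        by_cases h3 : w * e = e * w
        · exact ⟨w, ⟨hwT, mem_centralizer_singleton_iff.2 h3⟩, hwf⟩
        · refine ⟨w * u, ⟨mul_mem hwT huT, mem_centralizer_singleton_iff.2 ?_⟩, fun hc => hwf ?_⟩
          · refine (memM _ (mul_mem hwT huT)).1 ?_
            rw [hM.mul_iff w (hTS hwT) u (hTS huT), memM w hwT, memM u huT]
            exact iff_of_false h3 h1
          · apply mul_right_cancel (b := u)
            calc w * f * u = w * (u * f) := by rw [mul_assoc, h2]
              _ = (w * u) * f := by group
              _ = f * (w * u) := hc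
              _ = _ := by group
    obtain ⟨w₁, hw₁, hw₁f⟩ := hw
    have hTp : IsPGroup 2 T := S.2.to_le hTS
    have hAT : A < T := lt_of_le_of_ne inf_le_left fun e' =>
      hw₀e (mem_centralizer_singleton_iff.1 (inf_eq_left.1 e' hw₀))
    have hKA : K < A := lt_of_le_of_ne inf_le_left fun e' =>
      hw₁f (mem_centralizer_singleton_iff.1 (inf_eq_left.1 e' hw₁))
    have hef : f * e = e * f := by
      have h1 : f * e = e * f ∨ f * e = e * z * f := hconj f (hTS hfT)
      refine h1.resolve_right fun hc => ?_
      have hx : n⁻¹ * e * n ∈ T := hT.conj_mem hnN heT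
      rcases hconj _ (hTS hx) with h2 | h2
      · have h3 := (valM e heT).1 ((memM _ hx).2 h2)
        apply hz.2.1
        have h4 : e * z * f = e * f := hc.symm.trans h3.symm
        simpa [mul_assoc] using h4
      · have h3 : e * f = f * y * e := by
          rw [hf, hy]
          calc e * (n * e * n⁻¹) = n * ((n⁻¹ * e * n) * e) * n⁻¹ := by group
            _ = n * (e * z * (n⁻¹ * e * n)) * n⁻¹ := by rw [h2]
            _ = _ := by group
        apply hyz
        have h4 : e * f = e * z * f * y := by
          calc e * f = f * y * e := h3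
            _ = f * (y * e) := by group
            _ = f * e * y := by rw [← hyc e heT]; group
            _ = _ := by rw [hc]
        have h5 : z * f * y = f := by
          have := h4.symm
          simpa [mul_assoc] using this
        have h6 : z * y = 1 := by
          apply mul_left_cancel (a := f)
          rw [mul_one, ← mul_assoc, hzc f hfT]
          exact h5
        calc y = (z * z) * y := by rw [hzz, one_mul]
          _ = z * (z * y) := by group
          _ = z := by rw [h6, mul_one]
    set B := T ⊓ centralizer (T : Set G) with hB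
    have hzB : z ∈ B := ⟨hzT, mem_centralizer_iff.2 fun v hv => hzc v hv⟩
    have hyB : y ∈ B := ⟨hyT, mem_centralizer_iff.2 fun v hv => hyc v hv⟩
    have hBK : B ≤ K := fun v hv => ⟨⟨hv.1, mem_centralizer_singleton_iff.2
      (mem_centralizer_iff.1 hv.2 e heT).symm⟩,
      mem_centralizer_singleton_iff.2 (mem_centralizer_iff.1 hv.2 f hfT).symm⟩
    set B' := K ⊓ centralizer (A : Set G) with hB'
    have hBB' : B < B' := by
      refine lt_of_le_of_ne (le_inf hBK fun v hv =>
        mem_centralizer_iff.2 fun w hw => mem_centralizer_iff.1 hv.2 w hw.1) fun e' => ?_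
      have he' : e ∈ B' := ⟨⟨⟨heT, mem_centralizer_singleton_iff.2 rfl⟩,
        mem_centralizer_singleton_iff.2 hef.symm⟩,
        mem_centralizer_iff.2 fun w hw => mem_centralizer_singleton_iff.1 hw.2⟩
      rw [← e'] at he'
      exact hw₀e (mem_centralizer_iff.1 he'.2 w₀ hw₀)
    have hB'K : B' < K := lt_of_le_of_ne inf_le_left fun e' => by
      have hfK : f ∈ K := ⟨⟨hfT, mem_centralizer_singleton_iff.2 hef⟩,
        mem_centralizer_singleton_iff.2 rfl⟩
      rw [← e'] at hfK
      exact hw₁f (mem_centralizer_iff.1 hfK.2 w₁ hw₁)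
    have hB4 : 4 ≤ Nat.card B := by
      have h2 : zpowers z < B := by
        refine lt_of_le_of_ne (zpowers_le.2 hzB) fun e' => ?_
        rw [← e', mem_zpowers_iff] at hyB
        obtain ⟨k, hk⟩ := hyB
        rcases Int.even_or_odd' k with ⟨j, rfl | rfl⟩
        · exact hy1 (by rw [← hk, zpow_mul, zpow_two, hzz, one_zpow])
        · exact hyz (by rw [← hk, zpow_add, zpow_mul, zpow_two, hzz, one_zpow, zpow_one, one_mul])
      have := two_mul_card_le (hTp.to_le inf_le_left) h2
      rw [Nat.card_zpowers, orderOf_eq_prime (p := 2) (by rw [pow_two, hzz]) hz.2.1] at this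
      omega
    have k1 : 2 * Nat.card A ≤ Nat.card T := two_mul_card_le hTp hAT
    have k2 : 2 * Nat.card K ≤ Nat.card A := two_mul_card_le (hTp.to_le inf_le_left) hKA
    have k3 : 2 * Nat.card B' ≤ Nat.card K :=
      two_mul_card_le ((hTp.to_le inf_le_left).to_le inf_le_left) hB'K
    have k4 : 2 * Nat.card B ≤ Nat.card B' :=
      two_mul_card_le (((hTp.to_le inf_le_left).to_le inf_le_left).to_le inf_le_left) hBB'
    have := hT.card_le h hM
    omega
  · -- `z` and `y` are moved by `e` and `f`
    have heN : e ∈ N := by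
      refine mem_normalizer_of_cj (Subgroup.eq_of_le_of_card_ge ?_ (card_cj _ _).ge)
      rintro _ ⟨v, hv, rfl⟩
      show e * v * e⁻¹ ∈ T
      rcases hconj v (hTS hv) with h1 | h1
      · rw [← h1, mul_inv_cancel_right]; exact hv
      · have : e * v * e⁻¹ = z * v := by
          rw [inv_eq_of_mul_eq_one_right hee]
          calc e * v * e = e * (v * e) := by group
            _ = (e * e) * z * v := by rw [h1]; group
            _ = _ := by rw [hee]; group
        rw [this]
        exact mul_mem hzT hv
    have hfN : f ∈ N := mul_mem (mul_mem hnN heN) (inv_mem hnN)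
    have hye : y * e ≠ e * y := fun hc =>
      heT (hT.not_mem_inter hnN (fun _ _ => Iff.rfl) he (mem_cj_of_commute h hz hc.symm))
    have hzf : z * f ≠ f * z := fun hc => by
      have hfS : f ∈ (S : Subgroup G) := mem_of_commute h hz hc.symm
      have hfn : f ∈ cj n (S : Subgroup G) := ⟨e, he, rfl⟩
      have := hT.conj_mem hnN (hT.not_mem_inter hnN (fun _ _ => Iff.rfl) hfS hfn)
      rw [hf] at this
      exact heT (by simpa [mul_assoc] using this)
    have hzM : ¬ n⁻¹ * z * n ∈ M := fun hc => hzf ((valM z hzT).1 hc)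
    have hflip : ∀ v ∈ T, n⁻¹ * (v * z) * n ∈ M ↔ ¬ n⁻¹ * v * n ∈ M := by
      intro v hv
      rw [show n⁻¹ * (v * z) * n = (n⁻¹ * v * n) * (n⁻¹ * z * n) by group,
        hM.mul_iff _ (hTS (hT.conj_mem hnN hv)) _ (hTS (hT.conj_mem hnN hzT))]
      tauto
    let J : Subgroup G :=
      { carrier := {x | x ∈ T ∨ e * x ∈ T}
        one_mem' := Or.inl T.one_mem
        mul_mem' := fun {a b} ha hb => by
          have hc : ∀ v, v ∈ T → e * v * e ∈ T := fun v hv => by
            have := (mem_normalizer_iff.1 heN v).1 hv
            rwa [inv_eq_of_mul_eq_one_right hee] at this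
          have hee' : ∀ w : G, e * (e * w) = w := fun w => by rw [← mul_assoc, hee, one_mul]
          rcases ha with ha | ha <;> rcases hb with hb | hb
          · exact Or.inl (T.mul_mem ha hb)
          · refine Or.inr ?_
            rw [show e * (a * b) = (e * a * e) * (e * b) by simp only [mul_assoc, hee']]
            exact T.mul_mem (hc a ha) hb
          · exact Or.inr (by rw [← mul_assoc]; exact T.mul_mem ha hb)
          · refine Or.inl ?_
            rw [show a * b = (e * (e * a) * e) * (e * b) by simp only [mul_assoc, hee']]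
            exact T.mul_mem (hc _ ha) hb
        inv_mem' := fun {a} ha => by
          have hc : ∀ v, v ∈ T → e * v * e ∈ T := fun v hv => by
            have := (mem_normalizer_iff.1 heN v).1 hv
            rwa [inv_eq_of_mul_eq_one_right hee] at this
          rcases ha with ha | ha
          · exact Or.inl (T.inv_mem ha)
          · refine Or.inr ?_
            have h1 := hc _ (T.inv_mem ha)
            rw [show e * (e * a)⁻¹ * e = e * a⁻¹ * (e⁻¹ * e) by group] at h1
            simpa using h1 }
    have hJmem : ∀ x, x ∈ J ↔ x ∈ T ∨ e * x ∈ T := fun x => Iff.rfl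
    have heJ : e ∈ J := Or.inr (by rw [hee]; exact T.one_mem)
    have hJT1 : J ≤ (S : Subgroup G) ⊓ N := by
      intro x hx
      rcases hx with hx | hx
      · exact ⟨hTS hx, le_normalizer hx⟩
      · have := mul_mem (inv_mem (show e ∈ (S : Subgroup G) ⊓ N from ⟨he, heN⟩))
          (show e * x ∈ (S : Subgroup G) ⊓ N from ⟨hTS hx, le_normalizer hx⟩)
        simpa using this
    have hJlt : J < (S : Subgroup G) := by
      refine lt_of_le_of_ne (hJT1.trans inf_le_left) fun e' => ?_
      have h1 := Subgroup.card_le_of_le hJT1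
      have h2 : Nat.card ((S : Subgroup G) ⊓ N : Subgroup G) ≤ 64 := hT.card_normalizer_le h hM
      rw [e', h.card] at h1
      omega
    obtain ⟨s₀, hs₀, hs₀J⟩ := SetLike.exists_of_lt
      (CfsgLib.Techniques.Fusion.lt_inf_normalizer (S.2 : IsPGroup 2 (S : Subgroup G)) hJlt)
    have hmain : ∀ s, s ∈ (S : Subgroup G) → s ∈ normalizer (J : Set G) →
        s * y * s⁻¹ ∈ T ∧ s ∈ N := by
      intro s hs hsJ
      set a := s * y * s⁻¹ with ha
      have haJ : a ∈ J := (mem_normalizer_iff.1 hsJ y).1 (Or.inl hyT)
      have hae : a * e ≠ e * a := by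
        intro hc
        have hs' : s⁻¹ * e * s = e ∨ s⁻¹ * e * s = e * z := by
          rcases hconj s⁻¹ (inv_mem hs) with h1 | h1
          · exact Or.inl (by rw [h1]; group)
          · exact Or.inr (by rw [h1]; group)
        have h2 : y * (s⁻¹ * e * s) = (s⁻¹ * e * s) * y := by
          calc y * (s⁻¹ * e * s) = s⁻¹ * (a * e) * s := by rw [ha]; group
            _ = s⁻¹ * (e * a) * s := by rw [hc]
            _ = _ := by rw [ha]; group
        rcases hs' with h1 | h1 <;> rw [h1] at h2
        · exact hye h2
        · apply hye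
          apply mul_right_cancel (b := z)
          calc y * e * z = e * z * y := by rw [mul_assoc, h2]
            _ = e * (z * y) := by group
            _ = _ := by rw [← hzc y hyT]; group
      have haa : a * a = 1 := by rw [ha, conj_mul, hyy]; group
      have haT : a ∈ T := by
        rcases haJ with h1 | h1
        · exact h1
        · exfalso
          have hat : e * a ∈ T := h1
          rcases hconj _ (hTS hat) with h2 | h2
          · apply hae
            have : e * (a * e) = e * (e * a) := by rw [← mul_assoc, h2]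
            exact mul_left_cancel this
          · have hsq : (e * a) * (e * a) = z := by
              calc (e * a) * (e * a) = (e * a * e) * a := by group
                _ = e * z * e * (a * a) := by rw [h2]; group
                _ = _ := by rw [haa, mul_one, mul_assoc, hze, ← mul_assoc, hee, one_mul]
            apply hzM
            have hm := hM.mul_iff _ (hTS (hT.conj_mem hnN hat)) _ (hTS (hT.conj_mem hnN hat))
            rw [show n⁻¹ * (e * a) * n * (n⁻¹ * (e * a) * n) =
              n⁻¹ * ((e * a) * (e * a)) * n by group, hsq] at hm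
            exact hm.2 Iff.rfl
      refine ⟨haT, ?_⟩
      refine mem_normalizer_of_cj (Subgroup.eq_of_le_of_card_ge ?_ (card_cj _ _).ge)
      rintro _ ⟨v, hv, rfl⟩
      set x := s * v * s⁻¹ with hx
      show x ∈ T
      have hxJ : x ∈ J := (mem_normalizer_iff.1 hsJ v).1 (Or.inl hv)
      have hxa : x * a = a * x := by
        rw [hx, ha]
        calc s * v * s⁻¹ * (s * y * s⁻¹) = s * (v * y) * s⁻¹ := by group
          _ = s * (y * v) * s⁻¹ := by rw [hyc v hv]
          _ = _ := by group
      rcases hxJ with h1 | h1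
      · exact h1
      · exfalso
        have ht : e * x ∈ T := h1
        have h3 : e * a * e = a * z := by
          rcases hconj a (hTS haT) with h2 | h2
          · exact absurd h2 hae
          · calc e * a * e = e * (a * e) := by group
              _ = (e * e) * z * a := by rw [h2]; group
              _ = a * z := by rw [hee, one_mul, hzc a haT]
        have h4 : (e * x) * a * (e * x)⁻¹ = a * z := by
          rw [← h3]
          calc e * x * a * (e * x)⁻¹ = e * (x * a) * x⁻¹ * e⁻¹ := by group
            _ = e * a * e⁻¹ := by rw [hxa]; group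
            _ = _ := by rw [inv_eq_of_mul_eq_one_right hee]
        have h5 := hM.conj_iff (inv_mem (hTS (hT.conj_mem hnN ht))) (hTS (hT.conj_mem hnN haT))
        rw [show (n⁻¹ * (e * x) * n)⁻¹⁻¹ * (n⁻¹ * a * n) * (n⁻¹ * (e * x) * n)⁻¹ =
          n⁻¹ * ((e * x) * a * (e * x)⁻¹) * n by group, h4, hflip a haT] at h5
        tauto
    obtain ⟨s, hs, hsJ, hsnJ, hval⟩ : ∃ s, s ∈ (S : Subgroup G) ∧ s ∈ normalizer (J : Set G) ∧
        s ∉ J ∧ n⁻¹ * (s * y * s⁻¹) * n ∈ M := by
      by_cases hc : n⁻¹ * (s₀ * y * s₀⁻¹) * n ∈ M
      · exact ⟨s₀, hs₀.1, hs₀.2, hs₀J, hc⟩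
      · refine ⟨e * s₀, mul_mem he hs₀.1, mul_mem (le_normalizer heJ) hs₀.2,
          fun hh => hs₀J ?_, ?_⟩
        · have := mul_mem (inv_mem heJ) hh
          simpa using this
        · obtain ⟨h1, -⟩ := hmain s₀ hs₀.1 hs₀.2
          have h2 : e * (s₀ * y * s₀⁻¹) * e⁻¹ = (s₀ * y * s₀⁻¹) * z := by
            set a := s₀ * y * s₀⁻¹ with ha
            rw [inv_eq_of_mul_eq_one_right hee]
            rcases hconj a (hTS h1) with h3 | h3
            · exfalso
              have h6 : e * s₀ * y * (e * s₀)⁻¹ = a := by
                rw [ha]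
                calc e * s₀ * y * (e * s₀)⁻¹ = e * (s₀ * y * s₀⁻¹) * e⁻¹ := by group
                  _ = _ := by rw [← ha, ← h3, mul_inv_cancel_right]
              have h7 : s₀⁻¹ * e * s₀ * y = y * (s₀⁻¹ * e * s₀) := by
                calc s₀⁻¹ * e * s₀ * y = s₀⁻¹ * (e * a) * s₀ := by rw [ha]; group
                  _ = s₀⁻¹ * (a * e) * s₀ := by rw [h3]
                  _ = _ := by rw [ha]; group
              rcases hconj s₀⁻¹ (inv_mem hs₀.1) with h8 | h8
              · rw [show s₀⁻¹ * e * s₀ = e by rw [h8]; group] at h7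
                exact hye h7.symm
              · rw [show s₀⁻¹ * e * s₀ = e * z by rw [h8]; group] at h7
                apply hye
                apply mul_right_cancel (b := z)
                calc y * e * z = e * z * y := by rw [mul_assoc]; exact h7.symm
                  _ = e * (z * y) := by group
                  _ = _ := by rw [← hzc y hyT]; group
            · calc e * a * e = e * (a * e) := by group
                _ = (e * e) * z * a := by rw [h3]; group
                _ = a * z := by rw [hee, one_mul, hzc a (h1)]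
          rw [show e * s₀ * y * (e * s₀)⁻¹ = e * (s₀ * y * s₀⁻¹) * e⁻¹ by group, h2,
            hflip _ h1]
          exact hc
    obtain ⟨haT, hsN⟩ := hmain s hs hsJ
    have hfn : f ∈ cj n (S : Subgroup G) := ⟨e, he, rfl⟩
    have hfT : f ∉ T := fun hh => heT <| by
      have := hT.conj_mem hnN hh
      rw [hf] at this
      simpa [mul_assoc] using this
    have hfsn : f ∈ cj (s * n) (S : Subgroup G) := by
      refine mem_cj_of_commute h hz ?_
      rw [show s * n * z * (s * n)⁻¹ = s * y * s⁻¹ by rw [hy]; group]
      exact ((valM _ haT).1 hval).symm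
    have hlink := hT.link (mul_mem hsN hnN) hnN hfsn hfn hfT
    refine hsnJ (Or.inl (hT.mem_of_fix hM hs hsN fun v hv => ?_))
    have := hlink v hv
    rwa [show (s * n)⁻¹ * v * (s * n) = n⁻¹ * (s⁻¹ * v * s) * n by group] at this

end CfsgLib.ChainEight
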