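import Cfsg.Agent.Lib.ChainEight.Basic
import Cfsg.Agent.Lib.Techniques.FusionInduction

/-!
A maximal intersection `T = S ∩ nSn⁻¹` with `n` normalising `T` and changing the value of a
character of `S`, and the two linking lemmas.
-/

set_option autoImplicit false
set_option linter.unusedSectionVars false
set_option linter.style.haveILetI false

namespace CfsgLib.ChainEight

open Subgroup CfsgLib.TwoGroups.FT

variable {G : Type*} [Group G] [Finite G] {S : Sylow 2 G} {M : Subgroup G}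

/-- `M` is a subgroup of index two of `S`, as a predicate on products. -/
structure Half (S : Sylow 2 G) (M : Subgroup G) : Prop where
  le : M ≤ (S : Subgroup G)
  mul_iff : ∀ a ∈ (S : Subgroup G), ∀ b ∈ (S : Subgroup G), (a * b ∈ M ↔ (a ∈ M ↔ b ∈ M))
  exists_notMem : ∃ s ∈ (S : Subgroup G), s ∉ M

theorem Half.conj_iff (hM : Half S M) {t a : G} (ht : t ∈ (S : Subgroup G))
    (ha : a ∈ (S : Subgroup G)) : t⁻¹ * a * t ∈ M ↔ a ∈ M := by
  rw [hM.mul_iff _ (mul_mem (inv_mem ht) ha) _ ht, hM.mul_iff _ (inv_mem ht) _ ha, inv_mem_iff]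
  tauto

/-- `g` changes the value of the character with kernel `M`. -/
def Flips (S : Sylow 2 G) (M : Subgroup G) (g : G) : Prop :=
  ∃ u ∈ (S : Subgroup G), g⁻¹ * u * g ∈ (S : Subgroup G) ∧ ¬ (g⁻¹ * u * g ∈ M ↔ u ∈ M)

theorem not_flips_of_mem (hM : Half S M) {g : G} (hg : g ∈ (S : Subgroup G)) :
    ¬ Flips S M g := fun ⟨_, hu, _, hne⟩ => hne (hM.conj_iff hg hu)

theorem exists_flips (h : Setup G S) (hM : Half S M) : ∃ g, Flips S M g := by
  classical
  by_contra hno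
  haveI := h.simple
  haveI : Fact (Nat.Prime 2) := ⟨Nat.prime_two⟩
  let χ : (S : Subgroup G) →* ℤˣ :=
    { toFun := fun x => if (x : G) ∈ M then 1 else -1
      map_one' := if_pos M.one_mem
      map_mul' := fun x y => by
        have := hM.mul_iff _ x.2 _ y.2
        by_cases hx : (x : G) ∈ M <;> by_cases hy : (y : G) ∈ M <;> simp [hx, hy, this] }
  have hsurj : Function.Surjective χ := by
    obtain ⟨s, hs, hsM⟩ := hM.exists_notMem
    intro a
    rcases Int.units_eq_one_or a with rfl | rfl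
    · exact ⟨1, map_one χ⟩
    · exact ⟨⟨s, hs⟩, if_neg hsM⟩
  have hA : IsPGroup 2 ℤˣ := IsPGroup.of_card (n := 1) (by simp [Nat.card_eq_fintype_card])
  obtain ⟨K, hK, hidx, -⟩ := exists_normal_of_controlled S χ hA hsurj fun s g hg => by
    have hiff : g * (s : G) * g⁻¹ ∈ M ↔ (s : G) ∈ M := by
      by_contra hne
      exact hno ⟨g⁻¹, s, s.2, by simpa using hg, by simpa using hne⟩
    show (if g * (s : G) * g⁻¹ ∈ M then (1 : ℤˣ) else -1) = if (s : G) ∈ M then 1 else -1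
    simp [hiff]
  rw [show Nat.card ℤˣ = 2 by simp [Nat.card_eq_fintype_card]] at hidx
  rcases IsSimpleGroup.eq_bot_or_eq_top_of_normal K hK with e | e
  · rw [e, Subgroup.index_bot] at hidx
    have h1 := Subgroup.card_subgroup_dvd_card (S : Subgroup G)
    rw [hidx, h.card] at h1
    norm_num at h1
  · rw [e, Subgroup.index_top] at hidx
    norm_num at hidx

theorem normalizer_cj (g : G) (K : Subgroup G) :
    normalizer ((cj g K : Subgroup G) : Set G) = cj g (normalizer (K : Set G)) := by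
  ext x
  rw [mem_cj]
  constructor
  · intro hx
    refine mem_normalizer_of_cj ?_
    rw [← cj_cj, ← cj_cj, cj_eq_of_mem_normalizer hx, cj_inv_cj]
  · intro hx
    refine mem_normalizer_of_cj ?_
    have h1 := congrArg (cj g) (cj_eq_of_mem_normalizer hx)
    rw [cj_cj, show g * (g⁻¹ * x * g) = x * g by group] at h1
    rw [cj_cj]
    exact h1

theorem exists_sylow_over {N R₁ : Subgroup G} (hR : IsPGroup 2 R₁) (hle : R₁ ≤ N) :
    ∃ R : Subgroup G, R₁ ≤ R ∧ R ≤ N ∧ IsPGroup 2 R ∧ Odd (R.relIndex N) := by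
  haveI : Fact (Nat.Prime 2) := ⟨Nat.prime_two⟩
  obtain ⟨R, hR'⟩ := (hR.of_injective (subgroupOfEquivOfLe hle).toMonoidHom
    (subgroupOfEquivOfLe hle).injective).exists_le_sylow
  refine ⟨(R : Subgroup N).map N.subtype, fun x hx => ⟨⟨x, hle hx⟩, hR' hx, rfl⟩,
    map_subtype_le _, R.2.map _, ?_⟩
  rw [relIndex, subgroupOf, comap_map_eq_self_of_injective N.subtype_injective, Nat.odd_iff]
  have := R.not_dvd_index
  omega

theorem exists_le_cj (S : Sylow 2 G) {R : Subgroup G} (hR : IsPGroup 2 R) :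
    ∃ h : G, R ≤ cj h (S : Subgroup G) := by
  haveI : Fact (Nat.Prime 2) := ⟨Nat.prime_two⟩
  obtain ⟨Q, hQ⟩ := hR.exists_le_sylow
  obtain ⟨g, hg⟩ := MulAction.exists_smul_eq G S Q
  exact ⟨g, hQ.trans (by rw [← hg]; exact le_of_eq rfl)⟩

theorem two_mul_card_le {H K : Subgroup G} (hK : IsPGroup 2 K) (h : H < K) :
    2 * Nat.card H ≤ Nat.card K := by
  haveI : Fact (Nat.Prime 2) := ⟨Nat.prime_two⟩
  obtain ⟨a, ha⟩ := (hK.to_le h.le).exists_card_eq
  obtain ⟨b, hb⟩ := hK.exists_card_eq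
  have := CfsgLib.Techniques.Fusion.card_lt_of_lt h
  rw [ha, hb] at this ⊢
  have hab : a + 1 ≤ b := by
    by_contra hh
    exact absurd (Nat.pow_le_pow_right two_pos (show b ≤ a by omega)) (by omega)
  calc 2 * 2 ^ a = 2 ^ (a + 1) := by rw [pow_succ]; ring
    _ ≤ 2 ^ b := Nat.pow_le_pow_right two_pos hab

/-- A maximal intersection with a local element changing the character. -/
structure Tame (S : Sylow 2 G) (M T : Subgroup G) (n : G) : Prop where
  eq : T = (S : Subgroup G) ⊓ cj n (S : Subgroup G)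
  mem : n ∈ normalizer (T : Set G)
  flips : Flips S M n
  odd : Odd (((S : Subgroup G) ⊓ normalizer (T : Set G)).relIndex (normalizer (T : Set G)))
  max : ∀ g, Nat.card T < Nat.card ((S : Subgroup G) ⊓ cj g (S : Subgroup G) : Subgroup G) →
    ¬ Flips S M g

theorem exists_tame (h : Setup G S) (hM : Half S M) : ∃ T n, Tame S M T n := by
  classical
  haveI : Fact (Nat.Prime 2) := ⟨Nat.prime_two⟩
  let f : G → ℕ := fun x => Nat.card ((S : Subgroup G) ⊓ cj x (S : Subgroup G) : Subgroup G)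
  haveI : Nonempty {g : G // Flips S M g} :=
    let ⟨g, hg⟩ := exists_flips h hM; ⟨⟨g, hg⟩⟩
  obtain ⟨⟨g, hgf⟩, hmax⟩ := Finite.exists_max (fun x : {g : G // Flips S M g} => f x)
  have max' : ∀ x, f g < f x → ¬ Flips S M x := fun x hlt hx =>
    absurd (hmax ⟨x, hx⟩) (not_le.2 hlt)
  set D : Subgroup G := (S : Subgroup G) ⊓ cj g (S : Subgroup G) with hD
  have hfg : f g = Nat.card D := rfl
  obtain ⟨u, huS, hguS, hne⟩ := hgf
  have huD : u ∈ D := ⟨huS, mem_cj.2 hguS⟩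
  have hgS : g ∉ (S : Subgroup G) := fun hg => not_flips_of_mem hM hg ⟨u, huS, hguS, hne⟩
  have hDlt : D < (S : Subgroup G) := by
    refine lt_of_le_of_ne inf_le_left fun e => hgS (mem_of_cj_sylow h ?_)
    exact (Subgroup.eq_of_le_of_card_ge (inf_eq_left.1 e) (card_cj _ _).le).symm
  have hDlt' : D < cj g (S : Subgroup G) := by
    refine lt_of_le_of_ne inf_le_right fun e => ?_
    have := CfsgLib.Techniques.Fusion.card_lt_of_lt hDlt
    rw [e, card_cj] at this
    exact lt_irrefl _ this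
  set N := normalizer (D : Set G) with hN
  have h1 := CfsgLib.Techniques.Fusion.card_lt_of_lt
    (CfsgLib.Techniques.Fusion.lt_inf_normalizer (S.2 : IsPGroup 2 (S : Subgroup G)) hDlt)
  have h2 := CfsgLib.Techniques.Fusion.card_lt_of_lt
    (CfsgLib.Techniques.Fusion.lt_inf_normalizer (isPGroup_cj (g := g) S.2) hDlt')
  obtain ⟨R, hR1, hRN, hRp, hRodd⟩ := exists_sylow_over
    (R₁ := (S : Subgroup G) ⊓ N) (N := N) (S.2.to_le inf_le_left) inf_le_right
  obtain ⟨m, hm, hmR⟩ := exists_conj_into hRp hRN hRodd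
    (Q := cj g (S : Subgroup G) ⊓ N) ((isPGroup_cj S.2).to_le inf_le_left) inf_le_right
  obtain ⟨k, hk⟩ := exists_le_cj S hRp
  have hgood1 : ¬ Flips S M k := max' k (hfg ▸ h1.trans_le
    (Subgroup.card_le_of_le (le_inf inf_le_left (hR1.trans hk))))
  obtain ⟨l, hl, hlN⟩ : ∃ l, l = m⁻¹ ∧ l ∈ N := ⟨_, rfl, inv_mem hm⟩
  have hR2 : cj g (S : Subgroup G) ⊓ N ≤ cj (l * k) (S : Subgroup G) := by
    intro x hx
    rw [mem_cj, hl]
    have := hk (hmR (conj_mem_cj (g := m) hx))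
    rw [mem_cj] at this
    simpa [mul_assoc] using this
  have hgood2 : ¬ Flips S M (g⁻¹ * (l * k)) := by
    refine max' _ (hfg ▸ h2.trans_le ?_)
    rw [← card_cj g⁻¹]
    refine Subgroup.card_le_of_le (le_inf (le_trans (cj_mono inf_le_left) ?_) ?_)
    · rw [cj_inv_cj]
    · rw [← cj_cj]; exact cj_mono hR2
  have hDS : D ≤ (S : Subgroup G) := inf_le_left
  have hDN : D ≤ N := le_normalizer
  have hlD : ∀ v, v ∈ D → l⁻¹ * v * l ∈ D := fun v hv => by
    have := (mem_normalizer_iff.1 (inv_mem hlN) v).1 hv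
    simpa using this
  have hDk : D ≤ cj k (S : Subgroup G) := fun v hv => hk (hR1 ⟨hDS hv, hDN hv⟩)
  have key1 : ∀ v ∈ D, k⁻¹ * v * k ∈ M ↔ v ∈ M := fun v hv => by
    by_contra hc
    exact hgood1 ⟨v, hDS hv, mem_cj.1 (hDk hv), hc⟩
  have key2 : ∀ v ∈ D, (l * k)⁻¹ * v * (l * k) ∈ M ↔ g⁻¹ * v * g ∈ M := fun v hv => by
    by_contra hc
    have e : (g⁻¹ * (l * k))⁻¹ * (g⁻¹ * v * g) * (g⁻¹ * (l * k)) = (l * k)⁻¹ * v * (l * k) := by
      group
    refine hgood2 ⟨g⁻¹ * v * g, mem_cj.1 hv.2, ?_, ?_⟩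
    · rw [e]; exact mem_cj.1 (hR2 ⟨hv.2, hDN hv⟩)
    · rw [e]; exact hc
  have hlu : ¬ (l⁻¹ * u * l ∈ M ↔ u ∈ M) := by
    intro hc
    apply hne
    rw [← key2 u huD, show (l * k)⁻¹ * u * (l * k) = k⁻¹ * (l⁻¹ * u * l) * k by group,
      key1 _ (hlD u huD)]
    exact hc
  set T := cj k⁻¹ D with hT
  set n := k⁻¹ * l * k with hn
  have hnT : n ∈ normalizer (T : Set G) := by
    rw [hT, normalizer_cj, mem_cj, hn]
    simpa [mul_assoc] using hlN
  have hTS : T ≤ (S : Subgroup G) := by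
    have := cj_mono (g := k⁻¹) hDk
    rwa [cj_inv_cj] at this
  have hflip : Flips S M n := by
    refine ⟨k⁻¹ * u * k, mem_cj.1 (hDk huD), ?_, ?_⟩
    · rw [show n⁻¹ * (k⁻¹ * u * k) * n = k⁻¹ * (l⁻¹ * u * l) * k by rw [hn]; group]
      exact mem_cj.1 (hDk (hlD u huD))
    · rw [show n⁻¹ * (k⁻¹ * u * k) * n = k⁻¹ * (l⁻¹ * u * l) * k by rw [hn]; group,
        key1 _ (hlD u huD), key1 u huD]
      exact hlu
  have hTle : T ≤ (S : Subgroup G) ⊓ cj n (S : Subgroup G) := by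
    refine le_inf hTS ?_
    rw [← cj_eq_of_mem_normalizer hnT]
    exact cj_mono hTS
  have hTc : Nat.card T = f g := by rw [hT, card_cj, hfg]
  refine ⟨T, n, ?_, hnT, hflip, ?_, fun x hx => max' x (hTc ▸ hx)⟩
  · refine Subgroup.eq_of_le_of_card_ge hTle ?_
    rw [hTc]
    exact le_of_not_gt fun hlt => max' n hlt hflip
  · have hP' : cj k⁻¹ R ≤ (S : Subgroup G) ⊓ normalizer (T : Set G) := by
      refine le_inf ?_ ?_
      · have := cj_mono (g := k⁻¹) hk
        rwa [cj_inv_cj] at this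
      · rw [hT, normalizer_cj]; exact cj_mono hRN
    have hle : cj k ((S : Subgroup G) ⊓ normalizer (T : Set G)) ≤ N := by
      refine le_trans (cj_mono inf_le_right) ?_
      rw [hT, normalizer_cj, cj_cj_inv]
    obtain ⟨m', -, hm'⟩ := exists_conj_into hRp hRN hRodd
      (isPGroup_cj (S.2.to_le inf_le_left)) hle
    have hcard := Subgroup.card_le_of_le hm'
    rw [card_cj, card_cj] at hcard
    rw [← Subgroup.eq_of_le_of_card_ge hP' (by rw [card_cj]; exact hcard), hT, normalizer_cj]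
    show Odd ((R.map _).relIndex (N.map _))
    rw [Subgroup.relIndex_map_map_of_injective _ _ (MulAut.conj k⁻¹).injective]
    exact hRodd

variable {T : Subgroup G} {n : G}

theorem Tame.le_sylow (hT : Tame S M T n) : T ≤ (S : Subgroup G) := hT.eq ▸ inf_le_left

theorem Tame.conj_mem (hT : Tame S M T n) {h v : G} (hh : h ∈ normalizer (T : Set G))
    (hv : v ∈ T) : h⁻¹ * v * h ∈ T := by
  have := (mem_normalizer_iff.1 (inv_mem hh) v).1 hv
  simpa using this

theorem Tame.exists_ne (hT : Tame S M T n) : ∃ u ∈ T, ¬ (n⁻¹ * u * n ∈ M ↔ u ∈ M) := by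
  obtain ⟨u, hu, hnu, hne⟩ := hT.flips
  exact ⟨u, hT.eq ▸ ⟨hu, mem_cj.2 hnu⟩, hne⟩

/-- Elements outside `T` in two conjugates of `S` under `N(T)` link them. -/
theorem Tame.link (hT : Tame S M T n) {a b x : G} (ha : a ∈ normalizer (T : Set G))
    (hb : b ∈ normalizer (T : Set G)) (hxa : x ∈ cj a (S : Subgroup G))
    (hxb : x ∈ cj b (S : Subgroup G)) (hxT : x ∉ T) :
    ∀ v ∈ T, a⁻¹ * v * a ∈ M ↔ b⁻¹ * v * b ∈ M := by
  intro v hv
  by_contra hc
  have hab : a⁻¹ * b ∈ normalizer (T : Set G) := mul_mem (inv_mem ha) hb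
  have hTS := hT.le_sylow
  have hsub : T ≤ (S : Subgroup G) ⊓ cj (a⁻¹ * b) (S : Subgroup G) := by
    refine le_inf hTS ?_
    rw [← cj_eq_of_mem_normalizer hab]
    exact cj_mono hTS
  have hmem : a⁻¹ * x * a ∈ (S : Subgroup G) ⊓ cj (a⁻¹ * b) (S : Subgroup G) := by
    refine ⟨mem_cj.1 hxa, mem_cj.2 ?_⟩
    rw [show (a⁻¹ * b)⁻¹ * (a⁻¹ * x * a) * (a⁻¹ * b) = b⁻¹ * x * b by group]
    exact mem_cj.1 hxb
  have hnot : a⁻¹ * x * a ∉ T := by
    intro hm
    apply hxT
    have := (mem_normalizer_iff.1 ha _).1 hm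
    simpa [mul_assoc] using this
  have hlt : T < (S : Subgroup G) ⊓ cj (a⁻¹ * b) (S : Subgroup G) :=
    lt_of_le_of_ne hsub fun e => hnot (e ▸ hmem)
  refine hT.max _ (CfsgLib.Techniques.Fusion.card_lt_of_lt hlt)
    ⟨a⁻¹ * v * a, hTS (hT.conj_mem ha hv), ?_, ?_⟩
  · rw [show (a⁻¹ * b)⁻¹ * (a⁻¹ * v * a) * (a⁻¹ * b) = b⁻¹ * v * b by group]
    exact hTS (hT.conj_mem hb hv)
  · rw [show (a⁻¹ * b)⁻¹ * (a⁻¹ * v * a) * (a⁻¹ * b) = b⁻¹ * v * b by group]
    exact fun e => hc e.symm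

/-- An element of `S` outside `T` does not link to `n`. -/
theorem Tame.not_mem_inter (hT : Tame S M T n) {a x : G} (ha : a ∈ normalizer (T : Set G))
    (hval : ∀ v ∈ T, a⁻¹ * v * a ∈ M ↔ n⁻¹ * v * n ∈ M) (hx : x ∈ (S : Subgroup G))
    (hxa : x ∈ cj a (S : Subgroup G)) : x ∈ T := by
  by_contra hxT
  obtain ⟨u, hu, hne⟩ := hT.exists_ne
  have := hT.link (one_mem _) ha (by rw [cj_one]; exact hx) hxa hxT u hu
  simp only [inv_one, one_mul, mul_one] at this
  exact hne ((hval u hu).symm.trans this.symm)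

/-- The elements of `N(T)` fixing the twisted character. -/
def stab (S : Sylow 2 G) (M T : Subgroup G) (n : G) : Subgroup G where
  carrier := {a | a ∈ normalizer (T : Set G) ∧ ∀ v ∈ T,
    n⁻¹ * (a⁻¹ * v * a) * n ∈ M ↔ n⁻¹ * v * n ∈ M}
  one_mem' := ⟨one_mem _, fun v _ => by simp⟩
  mul_mem' := fun {a b} ha hb => ⟨mul_mem ha.1 hb.1, fun v hv => by
    have h1 : a⁻¹ * v * a ∈ T := by
      have := (mem_normalizer_iff.1 (inv_mem ha.1) v).1 hv
      simpa using this
    rw [show (a * b)⁻¹ * v * (a * b) = b⁻¹ * (a⁻¹ * v * a) * b by group, hb.2 _ h1, ha.2 v hv]⟩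
  inv_mem' := fun {a} ha => ⟨inv_mem ha.1, fun v hv => by
    have h1 : a * v * a⁻¹ ∈ T := (mem_normalizer_iff.1 ha.1 v).1 hv
    have := ha.2 _ h1
    rw [show a⁻¹ * (a * v * a⁻¹) * a = v by group] at this
    rw [inv_inv]
    exact this.symm⟩

/-- A 2-element of `S` in `N(T)` fixing the twisted character lies in `T`. -/
theorem Tame.mem_of_fix (hT : Tame S M T n) (hM : Half S M) {x : G} (hx : x ∈ (S : Subgroup G))
    (hxN : x ∈ normalizer (T : Set G))
    (hfix : ∀ v ∈ T, n⁻¹ * (x⁻¹ * v * x) * n ∈ M ↔ n⁻¹ * v * n ∈ M) : x ∈ T := by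
  haveI : Fact (Nat.Prime 2) := ⟨Nat.prime_two⟩
  have hTS := hT.le_sylow
  set N := normalizer (T : Set G)
  set P := (S : Subgroup G) ⊓ N
  set H := stab S M T n
  have hxH : x ∈ H := ⟨hxN, hfix⟩
  have hHN : H ≤ N := fun a ha => ha.1
  have hPH : cj n P ≤ H := by
    intro a ha
    rw [mem_cj] at ha
    have haN : a ∈ N := by
      have := mul_mem (mul_mem hT.mem ha.2) (inv_mem hT.mem)
      rwa [show n * (n⁻¹ * a * n) * n⁻¹ = a by group] at this
    refine ⟨haN, fun v hv => ?_⟩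
    have := hM.conj_iff ha.1 (hTS (hT.conj_mem hT.mem hv))
    rwa [show (n⁻¹ * a * n)⁻¹ * (n⁻¹ * v * n) * (n⁻¹ * a * n) = n⁻¹ * (a⁻¹ * v * a) * n by
      group] at this
  have hodd : Odd ((cj n P).relIndex H) := by
    refine Odd.of_dvd_nat ?_ (dvd_of_mul_right_eq _ (relIndex_mul_relIndex _ _ _ hPH hHN))
    rw [show N = cj n N from (cj_eq_of_mem hT.mem).symm]
    show Odd ((P.map _).relIndex (N.map _))
    rw [Subgroup.relIndex_map_map_of_injective _ _ (MulAut.conj n).injective]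
    exact hT.odd
  have hzp : IsPGroup 2 (zpowers x) := S.2.to_le (zpowers_le.2 hx)
  obtain ⟨m, hm, hle⟩ := exists_conj_into (isPGroup_cj (S.2.to_le inf_le_left)) hPH hodd
    hzp (zpowers_le.2 hxH)
  have h1 := hle (conj_mem_cj (g := m) (mem_zpowers x))
  rw [mem_cj] at h1
  refine hT.not_mem_inter (a := m⁻¹ * n) (mul_mem (inv_mem (hHN hm)) hT.mem) ?_ hx ?_
  · intro v hv
    have := (H.inv_mem hm).2 v hv
    rw [inv_inv] at this
    rwa [show (m⁻¹ * n)⁻¹ * v * (m⁻¹ * n) = n⁻¹ * (m * v * m⁻¹) * n by group]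
  · rw [mem_cj]
    rw [show (m⁻¹ * n)⁻¹ * x * (m⁻¹ * n) = n⁻¹ * (m * x * m⁻¹) * n by group]
    exact h1.1

/-- The twisted element is not in `S`. -/
theorem Tame.notMem (hT : Tame S M T n) (hM : Half S M) : n ∉ (S : Subgroup G) :=
  fun hn => not_flips_of_mem hM hn hT.flips

theorem Tame.ne_bot (hT : Tame S M T n) : T ≠ ⊥ := by
  obtain ⟨u, hu, hne⟩ := hT.exists_ne
  rintro rfl
  rw [mem_bot] at hu
  subst hu
  simp at hne

theorem Tame.lt (hT : Tame S M T n) (h : Setup G S) (hM : Half S M) :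
    T < (S : Subgroup G) := by
  refine lt_of_le_of_ne hT.le_sylow fun e => hT.notMem hM ?_
  rw [← normalizer_sylow h, ← e]
  exact hT.mem

theorem Tame.lt_normalizer (hT : Tame S M T n) (h : Setup G S) (hM : Half S M) :
    T < (S : Subgroup G) ⊓ normalizer (T : Set G) := by
  haveI : Fact (Nat.Prime 2) := ⟨Nat.prime_two⟩
  exact CfsgLib.Techniques.Fusion.lt_inf_normalizer (S.2 : IsPGroup 2 (S : Subgroup G))
    (hT.lt h hM)

theorem Tame.card_normalizer_le (hT : Tame S M T n) (h : Setup G S) (hM : Half S M) :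
    Nat.card ((S : Subgroup G) ⊓ normalizer (T : Set G) : Subgroup G) ≤ 64 := by
  haveI := h.simple
  refine card_le_of_lt h.no_chain (S.2.to_le inf_le_left)
    (lt_of_le_of_ne inf_le_right fun e => ?_) (H := normalizer (T : Set G)) ?_
  · exact hT.notMem hM ((inf_le_left : _ ≤ (S : Subgroup G)) (e.symm ▸ hT.mem))
  · intro e
    rcases IsSimpleGroup.eq_bot_or_eq_top_of_normal T (normalizer_eq_top_iff.1 e) with e1 | e1
    · exact hT.ne_bot e1
    · exact sylow_ne_top h (top_le_iff.1 (e1 ▸ hT.le_sylow))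

theorem Tame.card_le (hT : Tame S M T n) (h : Setup G S) (hM : Half S M) :
    Nat.card T ≤ 32 := by
  have h1 := two_mul_card_le (S.2.to_le inf_le_left) (hT.lt_normalizer h hM)
  have h2 := hT.card_normalizer_le h hM
  omega

/-- The centraliser of `T` in `S` lies in `T`. -/
theorem Tame.centralizer_le (hT : Tame S M T n) :
    (S : Subgroup G) ⊓ centralizer (T : Set G) ≤ T := by
  haveI : Fact (Nat.Prime 2) := ⟨Nat.prime_two⟩
  have hTS := hT.le_sylow
  set N := normalizer (T : Set G) with hN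
  set C := centralizer (T : Set G) with hC
  have hCN : C ≤ N := by
    intro c hc
    rw [hC, mem_centralizer_iff] at hc
    refine mem_normalizer_of_cj (cj_eq_of_commute fun v hv => ?_)
    rw [← hc v hv, mul_inv_cancel_right]
  have hCnorm : ∀ a ∈ N, ∀ c ∈ C, a * c * a⁻¹ ∈ C := by
    intro a ha c hc
    rw [hC, mem_centralizer_iff] at hc ⊢
    intro v hv
    have := hc _ (hT.conj_mem ha hv)
    calc v * (a * c * a⁻¹) = a * ((a⁻¹ * v * a) * c) * a⁻¹ := by group
      _ = a * (c * (a⁻¹ * v * a)) * a⁻¹ := by rw [this]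
      _ = _ := by group
  set Q := (S : Subgroup G) ⊓ C with hQ
  have hQp : IsPGroup 2 Q := S.2.to_le inf_le_left
  have hQodd : Odd (Q.relIndex C) := by
    obtain ⟨R, hQR, hRC, hRp, hRodd⟩ := exists_sylow_over hQp (inf_le_right : Q ≤ C)
    obtain ⟨m, hm, hmR⟩ := exists_conj_into (S.2.to_le inf_le_left)
      (inf_le_right : (S : Subgroup G) ⊓ N ≤ N) hT.odd hRp (hRC.trans hCN)
    have hle : cj m R ≤ Q := fun w hw => ⟨(hmR hw).1, by
      obtain ⟨r, hr, rfl⟩ := hw
      exact hCnorm m hm r (hRC hr)⟩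
    have := Subgroup.card_le_of_le hle
    rw [card_cj] at this
    rwa [Subgroup.eq_of_le_of_card_ge hQR this]
  obtain ⟨c, hc, hcle⟩ := exists_conj_into hQp inf_le_right hQodd (Q := cj n Q) (isPGroup_cj hQp)
    (by rintro _ ⟨q, hq, rfl⟩; exact hCnorm n hT.mem q hq.2)
  rw [cj_cj] at hcle
  have hn'Q : cj (c * n) Q = Q := Subgroup.eq_of_le_of_card_ge hcle (card_cj _ _).ge
  have hn' : c * n ∈ N := mul_mem (hCN hc) hT.mem
  intro q hq
  by_contra hqT
  have hval : ∀ v ∈ T, (c * n)⁻¹ * v * (c * n) ∈ M ↔ n⁻¹ * v * n ∈ M := by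
    intro v hv
    rw [hC, mem_centralizer_iff] at hc
    rw [show (c * n)⁻¹ * v * (c * n) = n⁻¹ * (c⁻¹ * (v * c)) * n by group, hc v hv,
      inv_mul_cancel_left]
  refine hqT (hT.not_mem_inter hn' hval hq.1 ?_)
  have h1 : q ∈ cj (c * n) Q := by rw [hn'Q]; exact hq
  exact cj_mono inf_le_left h1

theorem Tame.central_mem (hT : Tame S M T n) {w : G} (hw : Central S w) : w ∈ T :=
  hT.centralizer_le ⟨hw.1, mem_centralizer_iff.2 fun v hv => hw.2.2 v (hT.le_sylow hv)⟩

end CfsgLib.ChainEight
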